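import Groth.Agent.WeakUnram.TameAt
import Groth.Agent.S1987

/-! Tame extensions become unramified after adjoining a root of a uniformizer. -/

set_option autoImplicit false
universe u

namespace Groth.Agent.WeakUnram
open IsLocalRing TensorProduct Polynomial

/-- A field generated by two separable extensions is separable. -/
theorem separable_of_generated (K L K₁ M : Type u) [Field K] [Field L] [Field K₁] [Field M] [Algebra K L]
    [Algebra K K₁] [Algebra K M] [Algebra L M] [Algebra K₁ M] [IsScalarTower K L M] [IsScalarTower K K₁ M]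
    [Algebra.IsSeparable K L] [Algebra.IsSeparable K K₁]
    (hgen : Algebra.adjoin L (Set.range (algebraMap K₁ M)) = ⊤) : Algebra.IsSeparable K M := by
  refine ⟨fun z => mem_separableClosure_iff.1 ?_⟩
  have hz : z ∈ Algebra.adjoin L (Set.range (algebraMap K₁ M)) := hgen ▸ Algebra.mem_top
  induction hz using Algebra.adjoin_induction with
  | mem x hx =>
    obtain ⟨y, rfl⟩ := hx
    exact mem_separableClosure_iff.2 (IsSeparable.map (f := IsScalarTower.toAlgHom K K₁ M)
      (algebraMap K₁ M).injective (Algebra.IsSeparable.isSeparable K y))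
  | algebraMap l =>
    exact mem_separableClosure_iff.2 (IsSeparable.map (f := IsScalarTower.toAlgHom K L M)
      (algebraMap L M).injective (Algebra.IsSeparable.isSeparable K l))
  | add x y _ _ hx hy => exact add_mem hx hy
  | mul x y _ _ hx hy => exact mul_mem hx hy

/-- Two extensions have a generated compositum. -/
theorem exists_compositum (K L K₁ : Type u) [Field K] [Field L] [Field K₁] [Algebra K L] [Algebra K K₁] :
    ∃ (M : Type u) (_ : Field M) (_ : Algebra K M) (i : L →ₐ[K] M) (j : K₁ →ₐ[K] M),
      letI := i.toRingHom.toAlgebra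
      Algebra.adjoin L (Set.range j) = ⊤ := by
  haveI : Nontrivial (L ⊗[K] K₁) := Algebra.TensorProduct.nontrivial_of_algebraMap_injective_of_isDomain K L K₁
    (algebraMap K L).injective (algebraMap K K₁).injective
  obtain ⟨P, hP⟩ := Ideal.exists_maximal (L ⊗[K] K₁)
  haveI := hP
  refine ⟨(L ⊗[K] K₁) ⧸ P, Ideal.Quotient.field P, inferInstance,
    (Ideal.Quotient.mkₐ K P).comp (Algebra.TensorProduct.includeLeft : L →ₐ[K] L ⊗[K] K₁),
    (Ideal.Quotient.mkₐ K P).comp (Algebra.TensorProduct.includeRight : K₁ →ₐ[K] L ⊗[K] K₁), ?_⟩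
  letI := ((Ideal.Quotient.mkₐ K P).comp (Algebra.TensorProduct.includeLeft : L →ₐ[K] L ⊗[K] K₁)).toRingHom.toAlgebra
  refine Algebra.eq_top_iff.2 fun z => ?_
  obtain ⟨t, rfl⟩ := Ideal.Quotient.mk_surjective z
  induction t with
  | zero => rw [map_zero]; exact Subalgebra.zero_mem _
  | add x y hx hy => rw [map_add]; exact Subalgebra.add_mem _ hx hy
  | tmul a b =>
    rw [show a ⊗ₜ[K] b = (a ⊗ₜ[K] (1 : K₁)) * ((1 : L) ⊗ₜ[K] b) by
      rw [Algebra.TensorProduct.tmul_mul_tmul, mul_one, one_mul], map_mul]
    exact Subalgebra.mul_mem _ (Subalgebra.algebraMap_mem _ a) (Algebra.subset_adjoin ⟨b, rfl⟩)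

/-- `A[x]/(xⁿ - π)` is a DVR, totally ramified of index `n`, for every positive `n`. -/
theorem root_dvr (A : Type u) [CommRing A] [IsDomain A] [IsDiscreteValuationRing A] (π : A) (hπ : Irreducible π)
    (n : ℕ) (hn : 0 < n) :
    ∃ (_ : IsDomain (AdjoinRoot (X ^ n - C π : A[X]))) (_ : IsDiscreteValuationRing (AdjoinRoot (X ^ n - C π : A[X])))
      (_ : IsLocalHom (algebraMap A (AdjoinRoot (X ^ n - C π : A[X])))),
      (maximalIdeal A).map (algebraMap A (AdjoinRoot (X ^ n - C π : A[X]))) =
        maximalIdeal (AdjoinRoot (X ^ n - C π : A[X])) ^ n ∧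
      Function.Injective (algebraMap A (AdjoinRoot (X ^ n - C π : A[X]))) ∧
      Function.Surjective (fun a : A =>
        residue (AdjoinRoot (X ^ n - C π : A[X])) (algebraMap A _ a)) := by
  set f : A[X] := X ^ n - C π with hf
  have hmon : f.Monic := monic_X_pow_sub_C π hn.ne'
  have hinj : Function.Injective (algebraMap A (AdjoinRoot f)) :=
    AdjoinRoot.of.injective_of_degree_ne_zero (by
      rw [degree_eq_natDegree hmon.ne_zero, natDegree_X_pow_sub_C]; exact_mod_cast hn.ne')
  obtain ⟨hd, hv, hmap⟩ : ∃ (_ : IsDomain (AdjoinRoot f)) (_ : IsDiscreteValuationRing (AdjoinRoot f)),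
      (maximalIdeal A).map (algebraMap A (AdjoinRoot f)) = maximalIdeal (AdjoinRoot f) ^ n := by
    rcases Nat.lt_or_ge n 2 with h2 | h2
    · obtain rfl : n = 1 := by omega
      have hroot : AdjoinRoot.root f = algebraMap A (AdjoinRoot f) π := by
        have h := AdjoinRoot.eval₂_root f
        rw [hf, eval₂_sub, eval₂_X_pow, eval₂_C, sub_eq_zero] at h
        exact (pow_one _).symm.trans h
      have hsurj : Function.Surjective (algebraMap A (AdjoinRoot f)) := fun z => by
        induction z using AdjoinRoot.induction_on with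
        | _ p =>
          refine ⟨p.eval π, ?_⟩
          rw [show AdjoinRoot.mk f p = aeval (AdjoinRoot.root f) p from (AdjoinRoot.aeval_eq p).symm, hroot,
            aeval_algebraMap_apply]
          rfl
      let e : A ≃+* AdjoinRoot f := RingEquiv.ofBijective _ ⟨hinj, hsurj⟩
      haveI : IsDomain (AdjoinRoot f) := e.toMulEquiv.symm.isDomain
      haveI : IsDiscreteValuationRing (AdjoinRoot f) := IsDiscreteValuationRing.RingEquivClass.isDiscreteValuationRing e
      refine ⟨inferInstance, inferInstance, ?_⟩
      rw [pow_one]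
      haveI : (Ideal.map (algebraMap A (AdjoinRoot f)) (maximalIdeal A)).IsMaximal :=
        (Ideal.isMaximal_map_iff_of_bijective (algebraMap A (AdjoinRoot f)) ⟨hinj, hsurj⟩).2 inferInstance
      exact IsLocalRing.eq_maximalIdeal this
    · obtain ⟨-, hd, hv, -, hm, -⟩ := S1987.result A π hπ n h2
      exact ⟨hd, hv, hm⟩
  haveI := hd
  haveI := hv
  have hloc : IsLocalHom (algebraMap A (AdjoinRoot f)) := ⟨fun a ha => by
    by_contra hna
    have : algebraMap A (AdjoinRoot f) a ∈ maximalIdeal (AdjoinRoot f) :=
      Ideal.pow_le_self hn.ne' (hmap ▸ Ideal.mem_map_of_mem _ hna)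
    exact this ha⟩
  refine ⟨hd, hv, hloc, hmap, hinj, fun z => ?_⟩
  obtain ⟨z, rfl⟩ := residue_surjective z
  induction z using AdjoinRoot.induction_on with
  | _ p =>
    refine ⟨p.coeff 0, ?_⟩
    have hxm : residue (AdjoinRoot f) (AdjoinRoot.root f) = 0 := by
      have h := AdjoinRoot.eval₂_root f
      rw [hf, eval₂_sub, eval₂_X_pow, eval₂_C, sub_eq_zero] at h
      refine eq_zero_of_pow_eq_zero (n := n) ?_
      rw [← map_pow, h, residue_eq_zero_iff]
      exact Ideal.pow_le_self hn.ne' (hmap ▸ Ideal.mem_map_of_mem _ hπ.not_isUnit)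
    show residue _ (algebraMap A _ (p.coeff 0)) = residue _ (AdjoinRoot.mk f p)
    conv_rhs => rw [← X_mul_divX_add p]
    rw [map_add, map_mul, AdjoinRoot.mk_X, AdjoinRoot.mk_C, map_add, map_mul, hxm, zero_mul, zero_add]
    rfl

/-- The ramification index is at most the degree. -/
theorem ramificationIdx'_le_finrank {A K F : Type u} [CommRing A] [IsDomain A] [IsDiscreteValuationRing A] [Field K]
    [Algebra A K] [IsFractionRing A K] [Field F] [Algebra K F] [Algebra A F] [IsScalarTower A K F]
    [FiniteDimensional K F] (V : ValuationSubring F) [IsDiscreteValuationRing V]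
    [Algebra A V] (hAV : ∀ a, (algebraMap A V a : F) = algebraMap A F a) [IsLocalHom (algebraMap A V)] :
    Ideal.ramificationIdx' (maximalIdeal A) (maximalIdeal V) ≤ Module.finrank K F := by
  classical
  have hinjF : Function.Injective (algebraMap A F) := by
    rw [IsScalarTower.algebraMap_eq A K F]; exact (algebraMap K F).injective.comp (IsFractionRing.injective A K)
  have hinj : Function.Injective (algebraMap A V) := fun x y h => hinjF (by rw [← hAV, ← hAV, h])
  obtain ⟨π, hπ⟩ := IsDiscreteValuationRing.exists_irreducible A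
  obtain ⟨ϖ, hϖ⟩ := IsDiscreteValuationRing.exists_irreducible V
  obtain ⟨u, hu, he⟩ := exists_eq_unit_mul_pow hinj hπ hϖ
  set e := Ideal.ramificationIdx' (maximalIdeal A) (maximalIdeal V)
  have hli : LinearIndependent A fun i : Fin e => ((ϖ : F) ^ (i : ℕ)) := by
    rw [Fintype.linearIndependent_iff]
    intro a ha
    by_contra! hne
    have hterm : ∀ i, a i ≠ 0 → ∃ (m : ℕ) (w : Vˣ), m % e = i ∧ algebraMap A V (a i) * ϖ ^ (i : ℕ) = w * ϖ ^ m := by
      intro i hi
      obtain ⟨k, w, hw⟩ := IsDiscreteValuationRing.eq_unit_mul_pow_irreducible hi hπ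
      refine ⟨e * k + i, Units.map (algebraMap A V : A →* V) w * u ^ k, ?_, ?_⟩
      · rw [Nat.mul_add_mod, Nat.mod_eq_of_lt i.2]
      · rw [hw, map_mul, map_pow, hu, mul_pow, ← pow_mul, pow_add]
        simp
        ring
    choose! m w hm hmw using hterm
    obtain ⟨i₀, hi₀, hmin⟩ := (Finset.univ.filter fun i => a i ≠ 0).exists_min_image m (by
      obtain ⟨i, hi⟩ := hne; exact ⟨i, by simpa using hi⟩)
    rw [Finset.mem_filter] at hi₀
    have hsum : ∑ i, algebraMap A V (a i) * ϖ ^ (i : ℕ) = 0 := Subtype.ext (by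
      rw [AddSubmonoidClass.coe_finset_sum]
      refine Eq.trans (Finset.sum_congr rfl fun i _ => ?_) ha
      rw [Algebra.smul_def]
      push_cast
      rw [hAV])
    rw [← Finset.add_sum_erase _ _ (Finset.mem_univ i₀)] at hsum
    have hrest : ϖ ^ (m i₀ + 1) ∣ ∑ i ∈ Finset.univ.erase i₀, algebraMap A V (a i) * ϖ ^ (i : ℕ) := by
      refine Finset.dvd_sum fun i hi => ?_
      rw [Finset.mem_erase] at hi
      rcases eq_or_ne (a i) 0 with h0 | h0
      · simp [h0]
      rw [hmw i h0]
      refine Dvd.dvd.mul_left (pow_dvd_pow ϖ (Nat.lt_of_le_of_ne (hmin i (by simp [h0])) ?_)) _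
      intro heq
      exact hi.1 (Fin.ext (by rw [← hm i h0, ← hm i₀ hi₀.2, heq]))
    have h1 : ϖ ^ (m i₀ + 1) ∣ algebraMap A V (a i₀) * ϖ ^ (i₀ : ℕ) := by
      rw [eq_neg_of_add_eq_zero_left hsum]; exact hrest.neg_right
    rw [hmw i₀ hi₀.2, Units.dvd_mul_left, pow_dvd_pow_iff hϖ.ne_zero hϖ.not_isUnit] at h1
    omega
  have hK : LinearIndependent K fun i : Fin e => ((ϖ : F) ^ (i : ℕ)) :=
    (LinearIndependent.iff_fractionRing A K).1 hli
  simpa using hK.fintype_card_le_finrank

/-- The fraction field of `A[x]/(xⁿ - π)` is finite separable over `K` when `n` is invertible. -/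
theorem root_field {A K : Type u} [CommRing A] [IsDomain A] [Field K] [Algebra A K] [IsFractionRing A K] (π : A)
    (hπ : π ≠ 0) (n : ℕ) (hnK : (n : K) ≠ 0) [IsDomain (AdjoinRoot (X ^ n - C π : A[X]))]
    (L : Type u) [Field L] [Algebra (AdjoinRoot (X ^ n - C π : A[X])) L]
    [IsFractionRing (AdjoinRoot (X ^ n - C π : A[X])) L] [Algebra K L] [Algebra A L] [IsScalarTower A K L]
    [IsScalarTower A (AdjoinRoot (X ^ n - C π : A[X])) L] : FiniteDimensional K L ∧ Algebra.IsSeparable K L := by
  let B := AdjoinRoot (X ^ n - C π : A[X])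
  let x : L := algebraMap B L (AdjoinRoot.root _)
  let π' : K := algebraMap A K π
  have hx : aeval x (X ^ n - C π' : K[X]) = 0 := by
    have h := congrArg (algebraMap B L) (AdjoinRoot.eval₂_root (X ^ n - C π : A[X]))
    rw [eval₂_sub, eval₂_X_pow, eval₂_C, map_sub, map_zero, map_pow] at h
    rw [map_sub, map_pow, aeval_X, aeval_C]
    refine Eq.trans ?_ h
    show x ^ n - algebraMap K L (algebraMap A K π) = x ^ n - algebraMap B L (algebraMap A B π)
    rw [← IsScalarTower.algebraMap_apply, ← IsScalarTower.algebraMap_apply]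
  have hp : (X ^ n - C π' : K[X]).Separable :=
    separable_X_pow_sub_C _ hnK ((map_ne_zero_iff _ (IsFractionRing.injective A K)).2 hπ)
  have hxsep : IsSeparable K x := hp.of_dvd (minpoly.dvd K x hx)
  have hxint : IsIntegral K x := hxsep.isIntegral
  have htop : IntermediateField.adjoin K ({x} : Set L) = ⊤ := eq_top_iff.2 fun z _ => by
    have hB : ∀ b : B, algebraMap B L b ∈ IntermediateField.adjoin K ({x} : Set L) := fun b => by
      induction b using AdjoinRoot.induction_on with
      | _ p =>
        induction p using Polynomial.induction_on' with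
        | add p q hp hq => rw [map_add, map_add]; exact add_mem hp hq
        | monomial k a =>
          rw [← C_mul_X_pow_eq_monomial, map_mul, map_pow, AdjoinRoot.mk_C, AdjoinRoot.mk_X, map_mul, map_pow]
          refine mul_mem ?_ (pow_mem (IntermediateField.mem_adjoin_simple_self K x) k)
          rw [show algebraMap B L (AdjoinRoot.of _ a) = algebraMap K L (algebraMap A K a) by
            rw [← IsScalarTower.algebraMap_apply A K L, IsScalarTower.algebraMap_apply A B L]; rfl]
          exact IntermediateField.algebraMap_mem _ _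
    obtain ⟨p, q, -, rfl⟩ := IsFractionRing.div_surjective B z
    exact div_mem (hB p) (hB q)
  haveI : Algebra.IsSeparable K (IntermediateField.adjoin K ({x} : Set L)) :=
    (IntermediateField.isSeparable_adjoin_simple_iff_isSeparable K L).2 hxsep
  haveI : FiniteDimensional K (IntermediateField.adjoin K ({x} : Set L)) :=
    IntermediateField.adjoin.finiteDimensional hxint
  let e := (IntermediateField.equivOfEq htop).trans IntermediateField.topEquiv
  exact ⟨Module.Finite.equiv e.toLinearEquiv, AlgEquiv.Algebra.isSeparable e⟩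

/-- A tame extension becomes unramified over `A[x]/(xᴺ - π)` for every `N` divisible by its indices. -/
theorem exists_unramified_over_root {A K L : Type u} [CommRing A] [IsDomain A] [IsDiscreteValuationRing A] [Field K]
    [Algebra A K] [IsFractionRing A K] [Field L] [Algebra K L] [FiniteDimensional K L] [Algebra.IsSeparable K L]
    (π : A) (hπ : maximalIdeal A = Ideal.span {π})
    (h : EtRam.IsTamelyRamified A ((algebraMap K L).comp (algebraMap A K))) (N : ℕ) (hN : 0 < N)
    (hNk : (N : ResidueField A) ≠ 0)
    (hdvd : ∀ (V : ValuationSubring L) (hV : EtRam.Dominates A ((algebraMap K L).comp (algebraMap A K)) V),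
      letI : Algebra A V := (RingHom.codRestrict ((algebraMap K L).comp (algebraMap A K)) V hV.1).toAlgebra
      Ideal.ramificationIdx' (maximalIdeal A) (maximalIdeal V) ∣ N) :
    ∃ (L' : Type u) (_ : Field L') (_ : Algebra K L')
      (_ : Algebra (AdjoinRoot (X ^ N - C π : A[X])) L') (_ : L →ₐ[K] L'),
      FiniteDimensional K L' ∧ Algebra.IsSeparable K L' ∧
      (algebraMap (AdjoinRoot (X ^ N - C π : A[X])) L').comp (AdjoinRoot.of (X ^ N - C π)) =
        (algebraMap K L').comp (algebraMap A K) ∧
      ∀ [IsLocalRing (AdjoinRoot (X ^ N - C π : A[X]))],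
        EtRam.IsUnramifiedExt (AdjoinRoot (X ^ N - C π : A[X]))
          (algebraMap (AdjoinRoot (X ^ N - C π : A[X])) L') := by
  classical
  have hirr : Irreducible π := (IsDiscreteValuationRing.irreducible_iff_uniformizer π).2 hπ
  obtain ⟨hd, hv, hloc, hmap, hinj, hres⟩ := root_dvr A π hirr N hN
  haveI := hd
  haveI := hv
  haveI := hloc
  let B := AdjoinRoot (X ^ N - C π : A[X])
  let KN := FractionRing B
  have hAKN : Function.Injective (algebraMap A KN) := by
    rw [IsScalarTower.algebraMap_eq A B KN]; exact (IsFractionRing.injective B KN).comp hinj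
  letI : Algebra K KN := (IsFractionRing.lift hAKN).toAlgebra
  haveI : IsScalarTower A K KN := IsScalarTower.of_algebraMap_eq fun a => (IsFractionRing.lift_algebraMap hAKN a).symm
  have hNA : (N : A) ≠ 0 := fun h0 => hNk (by rw [← map_natCast (residue A), h0, map_zero])
  have hNK : (N : K) ≠ 0 := by
    rw [← map_natCast (algebraMap A K)]
    exact (map_ne_zero_iff _ (IsFractionRing.injective A K)).2 hNA
  obtain ⟨hfin, hsep⟩ := root_field π hirr.ne_zero N hNK KN
  obtain ⟨L', _, _, i, j, hgen⟩ := exists_compositum K KN L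
  letI : Algebra KN L' := i.toRingHom.toAlgebra
  letI : Algebra L L' := j.toRingHom.toAlgebra
  haveI : IsScalarTower K KN L' := IsScalarTower.of_algebraMap_eq fun k => (i.commutes k).symm
  haveI : IsScalarTower K L L' := IsScalarTower.of_algebraMap_eq fun k => (j.commutes k).symm
  haveI := finite_of_generated K KN L L' hgen
  letI : Algebra B L' := ((algebraMap KN L').comp (algebraMap B KN)).toAlgebra
  refine ⟨L', inferInstance, inferInstance, inferInstance, j, FiniteDimensional.trans K KN L',
    separable_of_generated K KN L L' hgen, ?_, ?_⟩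
  · refine RingHom.ext fun a => ?_
    show algebraMap KN L' (algebraMap B KN (algebraMap A B a)) = algebraMap K L' (algebraMap A K a)
    rw [IsScalarTower.algebraMap_apply K KN L', ← IsScalarTower.algebraMap_apply A B KN,
      ← IsScalarTower.algebraMap_apply A K KN]
  intro hl W hW
  letI : Algebra B W := (RingHom.codRestrict (algebraMap B L') W hW.1).toAlgebra
  intro hlocW
  obtain ⟨hsepW, hV, he⟩ := tame_at A B K KN L L' hgen W hW h
  refine ⟨?_, hsepW⟩
  letI : Algebra A (W.comap (algebraMap L L')) :=
    (RingHom.codRestrict ((algebraMap K L).comp (algebraMap A K)) (W.comap (algebraMap L L')) hV.1).toAlgebra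
  refine (weak_iff_at (K := KN) _ rfl W hW).2 (he.trans ?_)
  rw [ramificationIdx'_eq_of_map N hmap, Nat.gcd_eq_right (hdvd _ hV)]
  refine Nat.div_self ?_
  letI : Algebra A L := ((algebraMap K L).comp (algebraMap A K)).toAlgebra
  haveI : IsScalarTower A K L := IsScalarTower.of_algebraMap_eq' rfl
  haveI := (dvr_of_dominates (A := A) (K := K) _ hV).1
  exact Nat.pos_of_dvd_of_pos (hdvd _ hV) hN

/-- A uniform index clearing all ramification of a tame extension. -/
theorem exists_uniform_index {A K L : Type u} [CommRing A] [IsDomain A] [IsDiscreteValuationRing A] [Field K]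
    [Algebra A K] [IsFractionRing A K] [Field L] [Algebra K L] [FiniteDimensional K L]
    (h : EtRam.IsTamelyRamified A ((algebraMap K L).comp (algebraMap A K))) :
    ∃ e₀ : ℕ, 0 < e₀ ∧ (e₀ : ResidueField A) ≠ 0 ∧
      ∀ (V : ValuationSubring L) (hV : EtRam.Dominates A ((algebraMap K L).comp (algebraMap A K)) V),
        letI : Algebra A V := (RingHom.codRestrict ((algebraMap K L).comp (algebraMap A K)) V hV.1).toAlgebra
        Ideal.ramificationIdx' (maximalIdeal A) (maximalIdeal V) ∣ e₀ := by
  classical
  set s := (Finset.Icc 1 (Module.finrank K L)).filter fun n : ℕ => (n : ResidueField A) ≠ 0 with hs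
  refine ⟨∏ n ∈ s, n, ?_, ?_, fun V hV => ?_⟩
  · exact Finset.prod_pos fun n hn => (Finset.mem_Icc.1 (Finset.mem_filter.1 hn).1).1
  · rw [Nat.cast_prod]
    exact Finset.prod_ne_zero_iff.2 fun n hn => (Finset.mem_filter.1 hn).2
  letI : Algebra A V := (RingHom.codRestrict ((algebraMap K L).comp (algebraMap A K)) V hV.1).toAlgebra
  haveI : IsLocalHom (algebraMap A V) := ⟨fun a ha => by
    by_contra hna
    exact ((ValuationSubring.valuation_lt_one_iff V _).2 (hV.2 a hna)) ha⟩
  letI : Algebra A L := ((algebraMap K L).comp (algebraMap A K)).toAlgebra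
  haveI : IsScalarTower A K L := IsScalarTower.of_algebraMap_eq' rfl
  haveI := (dvr_of_dominates (A := A) (K := K) V hV).1
  obtain ⟨π, hπ⟩ := IsDiscreteValuationRing.exists_irreducible A
  obtain ⟨ϖ, hϖ⟩ := IsDiscreteValuationRing.exists_irreducible V
  obtain ⟨-, -, he⟩ := exists_eq_unit_mul_pow (A := A) (V := V) (fun x y hxy => IsFractionRing.injective A K
    ((algebraMap K L).injective (congrArg Subtype.val hxy))) hπ hϖ
  refine Finset.dvd_prod_of_mem id (Finset.mem_filter.2 ⟨Finset.mem_Icc.2 ⟨he, ?_⟩, ?_⟩)
  · exact ramificationIdx'_le_finrank V fun a => rfl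
  · exact natCast_ne_zero_of_not_dvd he (h V hV).2 dvd_rfl

/-- Conversely, an extension unramified over a root of the uniformizer of invertible order is tame. -/
theorem tame_of_unramified_over_root {A K L' : Type u} [CommRing A] [IsDomain A] [IsDiscreteValuationRing A] [Field K]
    [Algebra A K] [IsFractionRing A K] [Field L'] [Algebra K L'] [FiniteDimensional K L']
    (π : A) (hπ : maximalIdeal A = Ideal.span {π}) (N : ℕ) (hN : 0 < N) (hNk : (N : ResidueField A) ≠ 0)
    [Algebra (AdjoinRoot (X ^ N - C π : A[X])) L']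
    (hcomp : (algebraMap (AdjoinRoot (X ^ N - C π : A[X])) L').comp (AdjoinRoot.of (X ^ N - C π)) =
        (algebraMap K L').comp (algebraMap A K))
    (h : ∀ [IsLocalRing (AdjoinRoot (X ^ N - C π : A[X]))],
        EtRam.IsUnramifiedExt (AdjoinRoot (X ^ N - C π : A[X]))
          (algebraMap (AdjoinRoot (X ^ N - C π : A[X])) L')) :
    EtRam.IsTamelyRamified A ((algebraMap K L').comp (algebraMap A K)) := by
  classical
  have hirr : Irreducible π := (IsDiscreteValuationRing.irreducible_iff_uniformizer π).2 hπ
  obtain ⟨hd, hv, hloc, hmap, hinj, hres⟩ := root_dvr A π hirr N hN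
  haveI := hd
  haveI := hv
  haveI := hloc
  intro W hW
  letI : Algebra A W := (RingHom.codRestrict ((algebraMap K L').comp (algebraMap A K)) W hW.1).toAlgebra
  intro hlocA
  let B := AdjoinRoot (X ^ N - C π : A[X])
  letI : Algebra A L' := ((algebraMap K L').comp (algebraMap A K)).toAlgebra
  haveI : IsScalarTower A K L' := IsScalarTower.of_algebraMap_eq' rfl
  haveI : IsScalarTower A B L' := IsScalarTower.of_algebraMap_eq fun a => (RingHom.congr_fun hcomp a).symm
  haveI : IsScalarTower A W L' := IsScalarTower.of_algebraMap_eq fun a => rfl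
  haveI : Module.Finite A B := (monic_X_pow_sub_C π hN.ne').finite_adjoinRoot
  have hBW : ∀ b : B, algebraMap B L' b ∈ W := fun b => by
    obtain ⟨w, hw⟩ := IsIntegrallyClosed.isIntegral_iff.1 (IsIntegral.tower_top (A := W)
      ((Algebra.IsIntegral.isIntegral (R := A) b).map (IsScalarTower.toAlgHom A B L')))
    show algebraMap B L' b ∈ W
    rw [show algebraMap B L' b = IsScalarTower.toAlgHom A B L' b from rfl, ← hw]; exact w.2
  letI : Algebra B W := (RingHom.codRestrict (algebraMap B L') W hBW).toAlgebra
  haveI : IsScalarTower A B W := IsScalarTower.of_algebraMap_eq fun a =>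
    Subtype.ext (RingHom.congr_fun hcomp a).symm
  have hdom : EtRam.Dominates B (algebraMap B L') W := by
    refine ⟨hBW, fun b hb => ?_⟩
    show W.valuation ((algebraMap B W b : W) : L') < 1
    rw [← ValuationSubring.valuation_lt_one_iff, mem_maximalIdeal, mem_nonunits_iff]
    intro hu
    have h1 : b ^ N ∈ (maximalIdeal A).map (algebraMap A B) := hmap ▸ Ideal.pow_mem_pow hb N
    have h2 : (algebraMap B W b) ^ N ∈ (maximalIdeal A).map (algebraMap A W) := by
      rw [IsScalarTower.algebraMap_eq A B W, ← Ideal.map_map, ← map_pow]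
      exact Ideal.mem_map_of_mem _ h1
    have h3 : (maximalIdeal A).map (algebraMap A W) ≤ maximalIdeal W :=
      Ideal.map_le_iff_le_comap.2 fun a ha => map_nonunit (algebraMap A W) a ha
    exact h3 h2 (hu.pow N)
  haveI : IsLocalHom (algebraMap B W) := ⟨fun b hb => by
    by_contra hna
    exact ((ValuationSubring.valuation_lt_one_iff W _).2 (hdom.2 b hna)) hb⟩
  obtain ⟨hw, hsep⟩ := h W hdom
  haveI := hsep
  haveI := (dvr_of_dominates (A := A) (K := K) W hW).1
  refine ⟨?_, fun p hp hchar hd' => ?_⟩
  · haveI : IsScalarTower (ResidueField A) (ResidueField B) (ResidueField W) :=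
      IsScalarTower.of_algebraMap_eq fun x => by
        obtain ⟨x, rfl⟩ := residue_surjective x
        exact congrArg (residue W) (IsScalarTower.algebraMap_apply A B W x)
    haveI : Algebra.IsSeparable (ResidueField A) (ResidueField B) :=
      ⟨fun z => by
        obtain ⟨a, rfl⟩ := hres z
        exact isSeparable_algebraMap (F := ResidueField A) (residue A a)⟩
    exact Algebra.IsSeparable.trans (ResidueField A) (ResidueField B) (ResidueField W)
  · rw [ramificationIdx'_eq_of_map N (by
      rw [IsScalarTower.algebraMap_eq A B W, ← Ideal.map_map, hmap, Ideal.map_pow]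
      exact congrArg (· ^ N) hw)] at hd'
    exact hNk ((CharP.cast_eq_zero_iff (ResidueField A) p N).2 hd')

end Groth.Agent.WeakUnram
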