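import Groth.Agent.WeakUnram.TameAt

/-! Valuation rings over a finite unramified algebra are unramified. -/

set_option autoImplicit false
universe u

namespace Groth.Agent.WeakUnram
open IsLocalRing

/-- A valuation ring whose field is generated by the image of a finite unramified algebra is unramified. -/
theorem unramifiedExt_of_generated {A S F : Type u} [CommRing A] [IsDomain A] [IsDiscreteValuationRing A] [CommRing S]
    [Field F] [Algebra A S] [Module.Finite A S] [Algebra.FormallyUnramified A S] (g : A →+* F)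
    (hg : Function.Injective g) (φ : S →+* F) (hφ : φ.comp (algebraMap A S) = g)
    (hfr : ∀ z : F, ∃ a b, φ b ≠ 0 ∧ z * φ b = φ a) : EtRam.IsUnramifiedExt A g := by
  classical
  intro V hV
  letI : Algebra A V := (RingHom.codRestrict g V hV.1).toAlgebra
  intro hloc
  letI : Algebra A F := g.toAlgebra
  haveI : IsScalarTower A V F := IsScalarTower.of_algebraMap_eq fun a => rfl
  let φA : S →ₐ[A] F := { φ with commutes' := fun a => RingHom.congr_fun hφ a }
  have hSV : ∀ s, φ s ∈ V := fun s => by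
    obtain ⟨w, hw⟩ := IsIntegrallyClosed.isIntegral_iff.1 (IsIntegral.tower_top (A := V)
      ((Algebra.IsIntegral.isIntegral (R := A) s).map φA))
    show φA s ∈ V
    rw [← hw]; exact w.2
  let ψ₀ : S →+* V := φ.codRestrict V.toSubring hSV
  let q : Ideal S := (maximalIdeal V).comap ψ₀
  haveI : q.IsPrime := inferInstance
  let Sq := Localization.AtPrime q
  have hunit : ∀ s : q.primeCompl, IsUnit (ψ₀ s) := fun s => by
    by_contra h
    exact s.2 h
  let ψ : Sq →+* V := IsLocalization.lift (M := q.primeCompl) hunit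
  have hψ : ∀ s, ψ (algebraMap S Sq s) = ψ₀ s := fun s => IsLocalization.lift_eq hunit s
  haveI : Algebra.EssFiniteType S Sq := Algebra.EssFiniteType.of_isLocalization Sq q.primeCompl
  haveI : Algebra.EssFiniteType A Sq := Algebra.EssFiniteType.comp A S Sq
  haveI : Algebra.FormallyUnramified S Sq := Algebra.FormallyUnramified.of_isLocalization (Rₘ := Sq) q.primeCompl
  haveI : Algebra.FormallyUnramified A Sq := Algebra.FormallyUnramified.comp A S Sq
  haveI : IsNoetherianRing S := IsNoetherianRing.of_finite A S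
  haveI : IsNoetherianRing Sq := IsLocalization.isNoetherianRing q.primeCompl Sq inferInstance
  have hψA : ∀ a, ψ (algebraMap A Sq a) = algebraMap A V a := fun a => by
    rw [IsScalarTower.algebraMap_apply A S Sq, hψ]
    exact Subtype.ext (RingHom.congr_fun hφ a)
  haveI : IsLocalHom (algebraMap A Sq) := ⟨fun a ha =>
    isUnit_of_map_unit (algebraMap A V) a (hψA a ▸ ha.map ψ)⟩
  haveI : IsLocalHom ψ := ⟨fun z hz => by
    obtain ⟨⟨s, t⟩, hst⟩ := IsLocalization.surj q.primeCompl z
    by_contra hzu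
    have hsq : s ∈ q := by
      by_contra hsq
      exact hzu (isUnit_of_mul_isUnit_left (hst ▸ IsLocalization.map_units Sq (⟨s, hsq⟩ : q.primeCompl)))
    exact hsq (hψ s ▸ hst ▸ (map_mul ψ z _).symm ▸ hz.mul ((IsLocalization.map_units Sq t).map ψ))⟩
  obtain ⟨π, hπ⟩ := IsDiscreteValuationRing.exists_irreducible A
  have hm : maximalIdeal Sq = Ideal.span {algebraMap A Sq π} := by
    rw [← Algebra.FormallyUnramified.map_maximalIdeal (R := A) (S := Sq), hπ.maximalIdeal_eq, Ideal.map_span,
      Set.image_singleton]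
  let ϖ := algebraMap A V π
  have hϖ0 : ϖ ≠ 0 := fun h => hπ.ne_zero (hg ((congrArg Subtype.val h).trans (map_zero g).symm))
  have hϖn : ¬ IsUnit ϖ := fun h => hπ.not_isUnit (isUnit_of_map_unit (algebraMap A V) π h)
  have hdec : ∀ z : Sq, ψ z ≠ 0 → ∃ (k : ℕ) (w : Sq), IsUnit w ∧ ψ z = ϖ ^ k * ψ w := by
    intro z hz
    have hbot := Ideal.iInf_pow_eq_bot_of_isLocalRing (maximalIdeal Sq) (maximalIdeal.isMaximal Sq).ne_top
    have hex : ∃ n, z ∉ maximalIdeal Sq ^ n := by
      by_contra hall
      push_neg at hall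
      have hz0 : z = 0 := (Submodule.mem_bot Sq).1 (hbot ▸ Submodule.mem_iInf _ |>.2 hall)
      exact hz (by rw [hz0, map_zero])
    have h0 : Nat.find hex ≠ 0 := fun h => by
      have := Nat.find_spec hex
      rw [h, pow_zero, Ideal.one_eq_top] at this
      exact this Submodule.mem_top
    obtain ⟨n, hn, hn'⟩ : ∃ n, z ∈ maximalIdeal Sq ^ n ∧ z ∉ maximalIdeal Sq ^ (n + 1) :=
      ⟨Nat.find hex - 1, not_not.1 (Nat.find_min hex (Nat.sub_one_lt h0)),
        by rw [Nat.sub_add_cancel (Nat.pos_of_ne_zero h0)]; exact Nat.find_spec hex⟩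
    rw [hm, Ideal.span_singleton_pow, Ideal.mem_span_singleton] at hn
    obtain ⟨w, hw⟩ := hn
    refine ⟨n, w, ?_, by rw [hw, map_mul, map_pow, hψA]⟩
    by_contra hwu
    apply hn'
    rw [pow_succ, hw]
    refine Ideal.mul_mem_mul (Ideal.pow_mem_pow ?_ _) hwu
    rw [hm]; exact Ideal.mem_span_singleton_self _
  have hform : ∀ v : V, v ≠ 0 → ∃ (k : ℕ) (w₁ w₂ : Sq), IsUnit w₁ ∧ IsUnit w₂ ∧ v * ψ w₂ = ϖ ^ k * ψ w₁ := by
    intro v hv
    obtain ⟨a, b, hb, hab⟩ := hfr (v : F)
    have hab' : v * ψ (algebraMap S Sq b) = ψ (algebraMap S Sq a) := by rw [hψ, hψ]; exact Subtype.ext hab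
    have hb0 : ψ (algebraMap S Sq b) ≠ 0 := by rw [hψ]; exact fun h => hb (congrArg Subtype.val h)
    have ha0 : ψ (algebraMap S Sq a) ≠ 0 := hab' ▸ mul_ne_zero hv hb0
    obtain ⟨k, w₁, hw₁, e₁⟩ := hdec _ ha0
    obtain ⟨l, w₂, hw₂, e₂⟩ := hdec _ hb0
    rw [e₁, e₂] at hab'
    have hlk : l ≤ k := by
      by_contra hlk
      rw [show l = k + (l - k - 1) + 1 by omega, pow_succ, pow_add] at hab'
      have h4 : ψ w₁ = ϖ * (v * ϖ ^ (l - k - 1) * ψ w₂) :=
        mul_left_cancel₀ (pow_ne_zero k hϖ0) (by linear_combination -hab')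
      exact hϖn (isUnit_of_mul_isUnit_left (h4 ▸ hw₁.map ψ))
    refine ⟨k - l, w₁, w₂, hw₁, hw₂, ?_⟩
    rw [show k = l + (k - l) by omega, pow_add] at hab'
    exact mul_left_cancel₀ (pow_ne_zero l hϖ0) (by linear_combination hab')
  constructor
  · show (maximalIdeal A).map (algebraMap A V) = maximalIdeal V
    rw [hπ.maximalIdeal_eq, Ideal.map_span, Set.image_singleton]
    refine le_antisymm ((Ideal.span_singleton_le_iff_mem _).2 hϖn) fun v hv => ?_
    rcases eq_or_ne v 0 with rfl | hv0
    · exact Ideal.zero_mem _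
    obtain ⟨k, w₁, w₂, hw₁, hw₂, h⟩ := hform v hv0
    rcases Nat.eq_zero_or_pos k with rfl | hk
    · rw [pow_zero, one_mul] at h
      exact absurd (isUnit_of_mul_isUnit_left (h ▸ hw₁.map ψ)) hv
    · refine Ideal.mem_span_singleton.2 ((hw₂.map ψ).dvd_mul_right.1 ?_)
      rw [h]
      exact Dvd.dvd.mul_right (dvd_pow_self _ hk.ne') _
  · let j : ResidueField Sq →+* ResidueField V := ResidueField.map ψ
    letI : Algebra (ResidueField Sq) (ResidueField V) := j.toAlgebra
    haveI : IsScalarTower (ResidueField A) (ResidueField Sq) (ResidueField V) := IsScalarTower.of_algebraMap_eq fun x => by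
      obtain ⟨x, rfl⟩ := residue_surjective x
      exact congrArg (residue V) (hψA x).symm
    have hsurj : Function.Surjective j := fun z => by
      obtain ⟨v, rfl⟩ := residue_surjective z
      rcases eq_or_ne v 0 with rfl | hv0
      · exact ⟨0, by simp⟩
      obtain ⟨k, w₁, w₂, hw₁, hw₂, h⟩ := hform v hv0
      have hu : IsUnit (residue Sq w₂) := hw₂.map _
      refine ⟨residue Sq (algebraMap A Sq π ^ k * w₁) * (residue Sq w₂)⁻¹, ?_⟩
      rw [map_mul, map_inv₀]
      show residue V (ψ (algebraMap A Sq π ^ k * w₁)) * (residue V (ψ w₂))⁻¹ = _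
      rw [map_mul ψ, map_pow, hψA, ← h, map_mul,
        mul_inv_cancel_right₀ ((residue_ne_zero_iff_isUnit _).2 (hw₂.map ψ))]
    exact AlgEquiv.Algebra.isSeparable
      (AlgEquiv.ofBijective (IsScalarTower.toAlgHom (ResidueField A) (ResidueField Sq) (ResidueField V))
        ⟨j.injective, hsurj⟩)

end Groth.Agent.WeakUnram

namespace Groth.Agent.WeakUnram
open IsLocalRing

/-- Unramified implies tame, with no finiteness assumption. -/
theorem tame_of_unramifiedExt {A F : Type u} [CommRing A] [IsDomain A] [IsDiscreteValuationRing A] [Field F]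
    {g : A →+* F} (hg : Function.Injective g) (h : EtRam.IsUnramifiedExt A g) : EtRam.IsTamelyRamified A g := by
  intro V hV
  letI : Algebra A V := (RingHom.codRestrict g V hV.1).toAlgebra
  intro hl
  obtain ⟨h1, h2⟩ := h V hV
  refine ⟨h2, fun p hp _ hd => ?_⟩
  have hne : ¬ (maximalIdeal A).map (algebraMap A V) ≤ maximalIdeal V ^ 2 := by
    rw [show (maximalIdeal A).map (algebraMap A V) = maximalIdeal V from h1]
    intro hle
    obtain ⟨π, hπ⟩ := IsDiscreteValuationRing.exists_irreducible A
    have hmV : maximalIdeal V = Ideal.span {algebraMap A V π} := by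
      rw [← h1, hπ.maximalIdeal_eq, Ideal.map_span, Set.image_singleton]
    rw [hmV, Ideal.span_singleton_pow, Ideal.span_singleton_le_span_singleton] at hle
    obtain ⟨c, hc⟩ := hle
    by_cases h0 : algebraMap A V π = 0
    · exact hπ.ne_zero (hg ((congrArg Subtype.val h0).trans (map_zero g).symm))
    · refine hπ.not_isUnit (isUnit_of_map_unit (algebraMap A V) π (IsUnit.of_mul_eq_one c ?_))
      exact mul_left_cancel₀ h0 (by rw [mul_one]; linear_combination hc.symm)
  rw [Ideal.ramificationIdx'_spec (n := 1) (by rw [pow_one]; exact h1.le) hne] at hd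
  exact hp.ne_one (Nat.dvd_one.1 hd)

end Groth.Agent.WeakUnram
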