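import Groth.Agent.WeakUnram.Abhyankar

/-! Base change of tame extensions and Abhyankar's lemma at one valuation ring. -/

set_option autoImplicit false
universe u

namespace Groth.Agent.WeakUnram
open IsLocalRing TensorProduct Polynomial

variable (A B K L : Type u) [CommRing A] [IsDomain A] [IsDiscreteValuationRing A]
    [CommRing B] [IsDomain B] [IsDiscreteValuationRing B] [Algebra A B] [IsLocalHom (algebraMap A B)]
    [Field K] [Field L] [Algebra A K] [IsFractionRing A K] [Algebra B L] [IsFractionRing B L]
    [Algebra K L] [Algebra A L] [IsScalarTower A K L] [IsScalarTower A B L]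
    (K₁ : Type u) [Field K₁] [Algebra K K₁] [FiniteDimensional K K₁]
    (M : Type u) [Field M] [Algebra K M] [Algebra L M] [Algebra K₁ M] [IsScalarTower K L M] [IsScalarTower K K₁ M]
    (hgen : Algebra.adjoin L (Set.range (algebraMap K₁ M)) = ⊤) (W : ValuationSubring M)
    (hW : EtRam.Dominates B ((algebraMap L M).comp (algebraMap B L)) W)

include hgen hW in
/-- Tame upon base change. -/
theorem tame_at [Algebra.IsSeparable K K₁]
    (h : EtRam.IsTamelyRamified A ((algebraMap K K₁).comp (algebraMap A K))) :
    letI : Algebra B W := (RingHom.codRestrict ((algebraMap L M).comp (algebraMap B L)) W hW.1).toAlgebra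
    ∀ [IsLocalHom (algebraMap B W)],
      Algebra.IsSeparable (ResidueField B) (ResidueField W) ∧
      ∃ (hV : EtRam.Dominates A ((algebraMap K K₁).comp (algebraMap A K)) (W.comap (algebraMap K₁ M))),
        letI : Algebra A (W.comap (algebraMap K₁ M)) :=
          (RingHom.codRestrict ((algebraMap K K₁).comp (algebraMap A K)) (W.comap (algebraMap K₁ M)) hV.1).toAlgebra
        Ideal.ramificationIdx' (maximalIdeal B) (maximalIdeal W) =
          Ideal.ramificationIdx' (maximalIdeal A) (maximalIdeal (W.comap (algebraMap K₁ M))) /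
            Nat.gcd (Ideal.ramificationIdx' (maximalIdeal A) (maximalIdeal B))
              (Ideal.ramificationIdx' (maximalIdeal A) (maximalIdeal (W.comap (algebraMap K₁ M)))) := by
  classical
  intro _
  set V := W.comap (algebraMap K₁ M) with hV
  haveI := finite_of_generated K L K₁ M hgen
  letI : Algebra B M := ((algebraMap L M).comp (algebraMap B L)).toAlgebra
  haveI : IsScalarTower B L M := IsScalarTower.of_algebraMap_eq' rfl
  haveI : IsDiscreteValuationRing W := (dvr_of_dominates (A := B) (K := L) W hW).1
  letI : Algebra A K₁ := ((algebraMap K K₁).comp (algebraMap A K)).toAlgebra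
  haveI : IsScalarTower A K K₁ := IsScalarTower.of_algebraMap_eq' rfl
  have hAM : ∀ a : A, algebraMap K₁ M (algebraMap A K₁ a) = algebraMap B M (algebraMap A B a) := fun a => by
    show algebraMap K₁ M (algebraMap K K₁ (algebraMap A K a)) = algebraMap L M (algebraMap B L (algebraMap A B a))
    rw [← IsScalarTower.algebraMap_apply K K₁ M, ← IsScalarTower.algebraMap_apply A B L,
      IsScalarTower.algebraMap_apply A K L, ← IsScalarTower.algebraMap_apply K L M]
  have hVdom : EtRam.Dominates A (algebraMap A K₁) V := by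
    refine ⟨fun a => ?_, fun a ha => ?_⟩
    · show algebraMap K₁ M _ ∈ W
      rw [hAM]; exact hW.1 _
    · have hmem : algebraMap A K₁ a ∈ V := by show algebraMap K₁ M _ ∈ W; rw [hAM]; exact hW.1 _
      show V.valuation ((⟨algebraMap A K₁ a, hmem⟩ : V) : K₁) < 1
      rw [← ValuationSubring.valuation_lt_one_iff, mem_maximalIdeal, mem_nonunits_iff]
      intro hu
      have h1 := hu.map (EtRam.inclOfComap W (algebraMap K₁ M))
      have h2 := hW.2 _ (map_nonunit (algebraMap A B) a ha)
      rw [show ((algebraMap L M).comp (algebraMap B L)) (algebraMap A B a) =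
        ((EtRam.inclOfComap W (algebraMap K₁ M) ⟨algebraMap A K₁ a, hmem⟩ : W) : M) from (hAM a).symm,
        ← ValuationSubring.valuation_lt_one_iff] at h2
      exact h2 h1
  obtain ⟨hVdvr, hVfrac⟩ := WeakUnram.dvr_of_dominates (A := A) (K := K) V hVdom
  haveI := hVdvr
  letI : Algebra A V := (RingHom.codRestrict (algebraMap A K₁) V hVdom.1).toAlgebra
  letI : Algebra B W := (RingHom.codRestrict (algebraMap B M) W hW.1).toAlgebra
  letI : Algebra V W := (EtRam.inclOfComap W (algebraMap K₁ M)).toAlgebra
  letI : Algebra A W := ((algebraMap B W).comp (algebraMap A B)).toAlgebra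
  haveI : IsScalarTower A B W := IsScalarTower.of_algebraMap_eq' rfl
  haveI : IsScalarTower A V W := IsScalarTower.of_algebraMap_eq fun a => Subtype.ext (hAM a).symm
  haveI : IsLocalHom (algebraMap V W) := EtRam.isLocalHom_inclOfComap W (algebraMap K₁ M)
  haveI : IsLocalHom (algebraMap B W) := ⟨fun b hb => by
    by_contra hna
    exact ((ValuationSubring.valuation_lt_one_iff W _).2 (hW.2 b hna)) hb⟩
  haveI : IsLocalHom (algebraMap A V) := ⟨fun a ha => by
    by_contra hna
    exact ((ValuationSubring.valuation_lt_one_iff V _).2 (hVdom.2 a hna)) ha⟩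
  haveI : IsLocalHom (algebraMap A W) := by
    rw [IsScalarTower.algebraMap_eq A V W]; exact RingHom.isLocalHom_comp _ _
  have hinjW : Function.Injective (algebraMap A W) := fun x y hxy => by
    have h1 : algebraMap A K₁ x = algebraMap A K₁ y := (algebraMap K₁ M).injective (by
      rw [hAM, hAM]; exact congrArg Subtype.val hxy)
    exact IsFractionRing.injective A K ((algebraMap K K₁).injective h1)
  let Φ : V ⊗[A] B →ₐ[A] W :=
    Algebra.TensorProduct.lift (IsScalarTower.toAlgHom A V W) (IsScalarTower.toAlgHom A B W) (fun _ _ => Commute.all _ _)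
  obtain ⟨hsep, htame⟩ := h V hVdom
  haveI : Algebra.IsSeparable (ResidueField A) (ResidueField V) := hsep
  haveI : Module.Finite (ResidueField A) (ResidueField V) := residue_finite (K := K) V hVdom (fun _ => rfl)
  haveI : IsReduced (ResidueField V ⊗[ResidueField A] ResidueField B) := isReduced_tensor_of_separable
  haveI : Algebra.IsAlgebraic (ResidueField A) (ResidueField V) := Algebra.IsAlgebraic.of_finite _ _
  have hinjV : Function.Injective (algebraMap A V) := fun x y hxy => hinjW (by
    rw [IsScalarTower.algebraMap_apply A V W, hxy, ← IsScalarTower.algebraMap_apply])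
  obtain ⟨π, hπ⟩ := IsDiscreteValuationRing.exists_irreducible A
  obtain ⟨π₁, hπ₁⟩ := IsDiscreteValuationRing.exists_irreducible V
  obtain ⟨_, _, he₁0⟩ := exists_eq_unit_mul_pow hinjV hπ hπ₁
  have hgk := natCast_ne_zero_of_not_dvd he₁0 htame
    (Nat.gcd_dvd_right (Ideal.ramificationIdx' (maximalIdeal A) (maximalIdeal B)) _)
  obtain ⟨he, -, c, χ, hχ, hfr⟩ := tame_dvr (A := A) (A₁ := V) (B := B) (W := W) hinjW _ _ rfl rfl hgk
    (fun P hP => isMaximal_tensor_of_algebraic P hP)
    (fun w => frac_generated B K L K₁ M hgen W Φ (fun v => by simp [Φ]; rfl) (fun b => by simp [Φ]; rfl) w)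
  refine ⟨?_, hVdom, he⟩
  haveI : IsScalarTower (ResidueField A) (ResidueField V) (ResidueField W) := IsScalarTower.of_algebraMap_eq fun x => by
    obtain ⟨x, rfl⟩ := residue_surjective x
    exact congrArg (residue W) (IsScalarTower.algebraMap_apply A V W x)
  haveI : IsScalarTower (ResidueField A) (ResidueField B) (ResidueField W) := IsScalarTower.of_algebraMap_eq fun x => by
    obtain ⟨x, rfl⟩ := residue_surjective x
    exact congrArg (residue W) (IsScalarTower.algebraMap_apply A B W x)
  exact separable_of_fractions hgk c χ (fun a b => by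
    obtain ⟨a, rfl⟩ := residue_surjective a
    obtain ⟨b, rfl⟩ := residue_surjective b
    exact (hχ a b).trans (map_mul _ _ _)) hfr

include hgen hW in
/-- Abhyankar's lemma. -/
theorem abhyankar_at (hinj : Function.Injective (algebraMap A B))
    [Algebra.IsGeometricallyReduced (ResidueField A) (ResidueField B)]
    (hek : ((Ideal.ramificationIdx' (maximalIdeal A) (maximalIdeal B) : ℕ) : ResidueField A) ≠ 0)
    (hA : ∀ a : A, algebraMap K K₁ (algebraMap A K a) ∈ W.comap (algebraMap K₁ M)) :
    letI : Algebra A (W.comap (algebraMap K₁ M)) :=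
      (RingHom.codRestrict ((algebraMap K K₁).comp (algebraMap A K)) (W.comap (algebraMap K₁ M)) hA).toAlgebra
    letI : Algebra (W.comap (algebraMap K₁ M)) W := (EtRam.inclOfComap W (algebraMap K₁ M)).toAlgebra
    Ideal.ramificationIdx' (maximalIdeal A) (maximalIdeal B) ∣
      Ideal.ramificationIdx' (maximalIdeal A) (maximalIdeal (W.comap (algebraMap K₁ M))) →
    EtRam.IsWeaklyUnramified (W.comap (algebraMap K₁ M)) W ∧
      @Algebra.IsGeometricallyReduced (ResidueField (W.comap (algebraMap K₁ M))) (ResidueField W) _ _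
        (ResidueField.map (EtRam.inclOfComap W (algebraMap K₁ M))).toAlgebra := by
  classical
  intro hdvd
  set V := W.comap (algebraMap K₁ M) with hV
  haveI := finite_of_generated K L K₁ M hgen
  letI : Algebra B M := ((algebraMap L M).comp (algebraMap B L)).toAlgebra
  haveI : IsScalarTower B L M := IsScalarTower.of_algebraMap_eq' rfl
  haveI : IsDiscreteValuationRing W := (dvr_of_dominates (A := B) (K := L) W hW).1
  letI : Algebra A K₁ := ((algebraMap K K₁).comp (algebraMap A K)).toAlgebra
  haveI : IsScalarTower A K K₁ := IsScalarTower.of_algebraMap_eq' rfl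
  have hAM : ∀ a : A, algebraMap K₁ M (algebraMap A K₁ a) = algebraMap B M (algebraMap A B a) := fun a => by
    show algebraMap K₁ M (algebraMap K K₁ (algebraMap A K a)) = algebraMap L M (algebraMap B L (algebraMap A B a))
    rw [← IsScalarTower.algebraMap_apply K K₁ M, ← IsScalarTower.algebraMap_apply A B L,
      IsScalarTower.algebraMap_apply A K L, ← IsScalarTower.algebraMap_apply K L M]
  have hVdom : EtRam.Dominates A (algebraMap A K₁) V := by
    refine ⟨fun a => ?_, fun a ha => ?_⟩
    · show algebraMap K₁ M _ ∈ W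
      rw [hAM]; exact hW.1 _
    · have hmem : algebraMap A K₁ a ∈ V := by show algebraMap K₁ M _ ∈ W; rw [hAM]; exact hW.1 _
      show V.valuation ((⟨algebraMap A K₁ a, hmem⟩ : V) : K₁) < 1
      rw [← ValuationSubring.valuation_lt_one_iff, mem_maximalIdeal, mem_nonunits_iff]
      intro hu
      have h1 := hu.map (EtRam.inclOfComap W (algebraMap K₁ M))
      have h2 := hW.2 _ (map_nonunit (algebraMap A B) a ha)
      rw [show ((algebraMap L M).comp (algebraMap B L)) (algebraMap A B a) =
        ((EtRam.inclOfComap W (algebraMap K₁ M) ⟨algebraMap A K₁ a, hmem⟩ : W) : M) from (hAM a).symm,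
        ← ValuationSubring.valuation_lt_one_iff] at h2
      exact h2 h1
  obtain ⟨hVdvr, hVfrac⟩ := WeakUnram.dvr_of_dominates (A := A) (K := K) V hVdom
  haveI := hVdvr
  letI : Algebra A V := (RingHom.codRestrict (algebraMap A K₁) V hVdom.1).toAlgebra
  letI : Algebra B W := (RingHom.codRestrict (algebraMap B M) W hW.1).toAlgebra
  letI : Algebra V W := (EtRam.inclOfComap W (algebraMap K₁ M)).toAlgebra
  letI : Algebra A W := ((algebraMap B W).comp (algebraMap A B)).toAlgebra
  haveI : IsScalarTower A B W := IsScalarTower.of_algebraMap_eq' rfl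
  haveI : IsScalarTower A V W := IsScalarTower.of_algebraMap_eq fun a => Subtype.ext (hAM a).symm
  haveI : IsLocalHom (algebraMap V W) := EtRam.isLocalHom_inclOfComap W (algebraMap K₁ M)
  haveI : IsLocalHom (algebraMap B W) := ⟨fun b hb => by
    by_contra hna
    exact ((ValuationSubring.valuation_lt_one_iff W _).2 (hW.2 b hna)) hb⟩
  haveI : IsLocalHom (algebraMap A V) := ⟨fun a ha => by
    by_contra hna
    exact ((ValuationSubring.valuation_lt_one_iff V _).2 (hVdom.2 a hna)) ha⟩
  haveI : Algebra.IsAlgebraic (ResidueField A) (ResidueField V) := ⟨fun z => by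
    obtain ⟨v, rfl⟩ := residue_surjective z
    obtain ⟨c, s, hs, hc, hs', hvs⟩ := hVfrac v
    have hi : ∀ x : V, IsIntegral A (x : K₁) → IsIntegral (ResidueField A) (residue V x) := by
      rintro x ⟨f, hf, hfx⟩
      refine ⟨f.map (residue A), hf.map _, ?_⟩
      have hx : f.eval₂ (algebraMap A V) x = 0 := Subtype.ext (by
        have := (Polynomial.hom_eval₂ f (algebraMap A V) V.subtype x).trans hfx
        exact this.trans rfl)
      rw [Polynomial.eval₂_map, show (algebraMap (ResidueField A) (ResidueField V)).comp (residue A) =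
        (residue V).comp (algebraMap A V) from RingHom.ext fun _ => rfl, ← Polynomial.hom_eval₂, hx, map_zero]
    refine IsAlgebraic.of_mul (y := residue V s) (mem_nonZeroDivisors_of_ne_zero ((residue_ne_zero_iff_isUnit s).2 hs))
      (hi s hs').isAlgebraic ?_
    rw [← map_mul, mul_comm, hvs]
    exact (hi c hc).isAlgebraic⟩
  haveI : IsLocalHom (algebraMap A W) := by
    rw [IsScalarTower.algebraMap_eq A V W]; exact RingHom.isLocalHom_comp _ _
  have hinjW : Function.Injective (algebraMap A W) := fun x y hxy => by
    have h1 : algebraMap A K₁ x = algebraMap A K₁ y := (algebraMap K₁ M).injective (by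
      rw [hAM, hAM]; exact congrArg Subtype.val hxy)
    exact IsFractionRing.injective A K ((algebraMap K K₁).injective h1)
  let Φ : V ⊗[A] B →ₐ[A] W :=
    Algebra.TensorProduct.lift (IsScalarTower.toAlgHom A V W) (IsScalarTower.toAlgHom A B W) (fun _ _ => Commute.all _ _)
  have hge : Nat.gcd (Ideal.ramificationIdx' (maximalIdeal A) (maximalIdeal B))
      (Ideal.ramificationIdx' (maximalIdeal A) (maximalIdeal V)) = _ := Nat.gcd_eq_left hdvd
  haveI : IsReduced (ResidueField V ⊗[ResidueField A] ResidueField B) := inferInstance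
  have hmax : ∀ P : Ideal (ResidueField V ⊗[ResidueField A] ResidueField B), P.IsPrime → P.IsMaximal :=
    fun P hP => isMaximal_tensor_of_algebraic P hP
  set g := Nat.gcd (Ideal.ramificationIdx' (maximalIdeal A) (maximalIdeal B))
    (Ideal.ramificationIdx' (maximalIdeal A) (maximalIdeal V))
  obtain ⟨-, hm, c, χ, hχ, hfr⟩ := tame_dvr (A := A) (A₁ := V) (B := B) (W := W) hinjW _ _ rfl rfl (show (g : ResidueField A) ≠ 0 by rw [hge]; exact hek)
    hmax
    (fun w => frac_generated B K L K₁ M hgen W Φ (fun v => by simp [Φ]; rfl) (fun b => by simp [Φ]; rfl) w)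
  have hg0 : 0 < Ideal.ramificationIdx' (maximalIdeal A) (maximalIdeal B) :=
    Nat.pos_of_ne_zero fun h0 => hek (by rw [h0, Nat.cast_zero])
  refine ⟨?_, ?_⟩
  · show (maximalIdeal V).map (algebraMap V W) = maximalIdeal W
    rw [hm, Nat.gcd_eq_left hdvd, Nat.div_self hg0, pow_one]
  let kA := ResidueField A
  let k₁ := ResidueField V
  let R := k₁ ⊗[kA] ResidueField B
  let f : R[X] := X ^ g - C (c : R)
  have hg : g ≠ 0 := by rw [hge]; exact hg0.ne'
  have hf : f.Monic := monic_X_pow_sub_C _ hg
  have hgR : IsUnit ((g : ℕ) : R) := by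
    rw [← map_natCast (algebraMap kA R)]
    exact (isUnit_iff_ne_zero.2 (by rw [hge]; exact hek)).map _
  have hs : f.Separable := separable_X_pow_sub_C_unit c hgR
  haveI : Module.Finite R (AdjoinRoot f) := hf.finite_adjoinRoot
  haveI : Algebra.IsIntegral R (AdjoinRoot f) := Algebra.IsIntegral.of_finite R _
  haveI : IsReduced (AdjoinRoot f) := isReduced_adjoinRoot hf hs
  let Ω := AlgebraicClosure k₁
  haveI : Algebra.IsAlgebraic kA Ω := Algebra.IsAlgebraic.trans kA k₁ Ω
  haveI : IsReduced (Ω ⊗[k₁] R) :=
    isReduced_of_injective (Algebra.TensorProduct.cancelBaseChange kA k₁ Ω Ω (ResidueField B))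
      (Algebra.TensorProduct.cancelBaseChange kA k₁ Ω Ω (ResidueField B)).injective
  haveI : IsReduced (Ω ⊗[k₁] AdjoinRoot f) := isReduced_tensor_adjoinRoot Ω hf hs
  letI : Algebra k₁ (ResidueField W) := (ResidueField.map (EtRam.inclOfComap W (algebraMap K₁ M))).toAlgebra
  let χ' : AdjoinRoot f →ₐ[k₁] ResidueField W :=
    { χ with
      commutes' := fun x => by
        obtain ⟨x, rfl⟩ := residue_surjective x
        show χ (algebraMap k₁ (AdjoinRoot f) (residue V x)) = residue W (algebraMap V W x)
        rw [IsScalarTower.algebraMap_apply k₁ R (AdjoinRoot f)]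
        show χ (AdjoinRoot.of _ (residue V x ⊗ₜ[kA] (1 : ResidueField B))) = _
        rw [← map_one (residue B)]
        exact (hχ x 1).trans (by rw [map_one, mul_one]) }
  exact geometricallyReduced_of_fractions χ'
    (fun P hP => Ideal.isMaximal_of_isIntegral_of_isMaximal_comap (R := R) P (hmax _ (hP.comap _))) hfr

/-- Ramification index one is weak unramifiedness. -/
theorem weak_iff {A V : Type u} [CommRing A] [IsDomain A] [IsDiscreteValuationRing A] [CommRing V] [IsDomain V]
    [IsDiscreteValuationRing V] [Algebra A V] [IsLocalHom (algebraMap A V)]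
    (hinj : Function.Injective (algebraMap A V)) :
    EtRam.IsWeaklyUnramified A V ↔ Ideal.ramificationIdx' (maximalIdeal A) (maximalIdeal V) = 1 := by
  obtain ⟨π, hπ⟩ := IsDiscreteValuationRing.exists_irreducible A
  obtain ⟨ϖ, hϖ⟩ := IsDiscreteValuationRing.exists_irreducible V
  obtain ⟨u, hu, -⟩ := exists_eq_unit_mul_pow hinj hπ hϖ
  refine ⟨fun h => ramificationIdx'_eq_of_map 1 (by rw [pow_one]; exact h), fun h => ?_⟩
  rw [h, pow_one] at hu
  show (maximalIdeal A).map (algebraMap A V) = maximalIdeal V
  rw [hπ.maximalIdeal_eq, Ideal.map_span, Set.image_singleton, hϖ.maximalIdeal_eq, hu]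
  exact Ideal.span_singleton_mul_left_unit u.isUnit _

/-- Weak unramifiedness at a valuation ring of a finite extension. -/
theorem weak_iff_at {A K F : Type u} [CommRing A] [IsDomain A] [IsDiscreteValuationRing A] [Field K] [Algebra A K]
    [IsFractionRing A K] [Field F] [Algebra K F] [FiniteDimensional K F] (g : A →+* F)
    (hg : g = (algebraMap K F).comp (algebraMap A K)) (V : ValuationSubring F) (h : EtRam.Dominates A g V) :
    letI : Algebra A V := (RingHom.codRestrict g V h.1).toAlgebra
    EtRam.IsWeaklyUnramified A V ↔ Ideal.ramificationIdx' (maximalIdeal A) (maximalIdeal V) = 1 := by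
  letI : Algebra A V := (RingHom.codRestrict g V h.1).toAlgebra
  letI : Algebra A F := g.toAlgebra
  haveI : IsScalarTower A K F := IsScalarTower.of_algebraMap_eq' hg
  haveI := (dvr_of_dominates (A := A) (K := K) V h).1
  haveI : IsLocalHom (algebraMap A V) := ⟨fun a ha => by
    by_contra hna
    exact ((ValuationSubring.valuation_lt_one_iff V _).2 (h.2 a hna)) ha⟩
  exact weak_iff fun x y hxy => IsFractionRing.injective A K ((algebraMap K F).injective (by
    have := congrArg Subtype.val hxy
    rw [show ((algebraMap A V x : V) : F) = g x from rfl, show ((algebraMap A V y : V) : F) = g y from rfl, hg] at this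
    exact this))

include hgen in
/-- Tame base change along a generated compositum. -/
theorem tame_baseChange [Algebra.IsSeparable K K₁]
    (h : EtRam.IsTamelyRamified A ((algebraMap K K₁).comp (algebraMap A K))) :
    EtRam.IsTamelyRamified B ((algebraMap L M).comp (algebraMap B L)) := by
  intro W hW
  letI : Algebra B W := (RingHom.codRestrict ((algebraMap L M).comp (algebraMap B L)) W hW.1).toAlgebra
  intro hloc
  obtain ⟨hsep, hV, he⟩ := tame_at A B K L K₁ M hgen W hW h
  refine ⟨hsep, fun p hp hchar hd => ?_⟩
  letI : Algebra A (W.comap (algebraMap K₁ M)) :=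
    (RingHom.codRestrict ((algebraMap K K₁).comp (algebraMap A K)) (W.comap (algebraMap K₁ M)) hV.1).toAlgebra
  haveI : IsLocalHom (algebraMap A (W.comap (algebraMap K₁ M))) := ⟨fun a ha => by
    by_contra hna
    exact ((ValuationSubring.valuation_lt_one_iff _ _).2 (hV.2 a hna)) ha⟩
  haveI : CharP (ResidueField A) p := (RingHom.charP_iff (algebraMap (ResidueField A) (ResidueField B))
    (algebraMap (ResidueField A) (ResidueField B)).injective p).2 hchar
  rw [he] at hd
  exact (h _ hV).2 p hp inferInstance (hd.trans (Nat.div_dvd_of_dvd (Nat.gcd_dvd_right _ _)))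

theorem tame_of_unramified [Algebra.IsSeparable K K₁]
    (h : EtRam.IsUnramifiedExt A ((algebraMap K K₁).comp (algebraMap A K))) :
    EtRam.IsTamelyRamified A ((algebraMap K K₁).comp (algebraMap A K)) := by
  intro V hV
  letI : Algebra A V := (RingHom.codRestrict ((algebraMap K K₁).comp (algebraMap A K)) V hV.1).toAlgebra
  intro hl
  obtain ⟨h1, h2⟩ := h V hV
  refine ⟨h2, fun p hp _ hd => ?_⟩
  rw [(weak_iff_at (K := K) _ rfl V hV).1 h1] at hd
  exact hp.ne_one (Nat.dvd_one.1 hd)

include hgen in
/-- Unramified base change along a generated compositum. -/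
theorem unramified_baseChange [Algebra.IsSeparable K K₁]
    (h : EtRam.IsUnramifiedExt A ((algebraMap K K₁).comp (algebraMap A K))) :
    EtRam.IsUnramifiedExt B ((algebraMap L M).comp (algebraMap B L)) := by
  intro W hW
  letI : Algebra B W := (RingHom.codRestrict ((algebraMap L M).comp (algebraMap B L)) W hW.1).toAlgebra
  intro hloc
  obtain ⟨hsep, hV, he⟩ := tame_at A B K L K₁ M hgen W hW (tame_of_unramified A K K₁ h)
  refine ⟨?_, hsep⟩
  letI : Algebra A (W.comap (algebraMap K₁ M)) :=
    (RingHom.codRestrict ((algebraMap K K₁).comp (algebraMap A K)) (W.comap (algebraMap K₁ M)) hV.1).toAlgebra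
  haveI : IsLocalHom (algebraMap A (W.comap (algebraMap K₁ M))) := ⟨fun a ha => by
    by_contra hna
    exact ((ValuationSubring.valuation_lt_one_iff _ _).2 (hV.2 a hna)) ha⟩
  rw [(weak_iff_at (K := K) _ rfl _ hV).1 (h _ hV).1, Nat.gcd_one_right, Nat.div_one] at he
  haveI := finite_of_generated K L K₁ M hgen
  exact (weak_iff_at (K := L) _ rfl W hW).2 he

end Groth.Agent.WeakUnram
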