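import Mathlib

/-! The base change of a weakly unramified extension of DVRs with geometrically reduced residue field. -/

set_option autoImplicit false
universe u

namespace Groth.Agent.WeakUnram
open IsLocalRing TensorProduct

theorem exists_notMem_mul_eq_zero {S : Type u} [CommRing S] [IsReduced S] {Q : Ideal S} [Q.IsPrime]
    (hQ : ∀ P : Ideal S, P.IsPrime → P ≤ Q → P = Q) {x : S} (hx : x ∈ Q) : ∃ s ∉ Q, s * x = 0 := by
  have hnil : IsNilpotent (algebraMap S (Localization.AtPrime Q) x) := by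
    rw [← mem_nilradical, nilradical_eq_sInf, Ideal.mem_sInf]
    intro P hP
    haveI : P.IsPrime := hP
    show x ∈ P.comap (algebraMap S _)
    rw [hQ (P.comap (algebraMap S _)) inferInstance ?_]
    · exact hx
    · have := IsLocalization.AtPrime.comap_maximalIdeal (Localization.AtPrime Q) Q
      exact (Ideal.comap_mono (IsLocalRing.le_maximalIdeal (Ideal.IsPrime.ne_top inferInstance))).trans this.le
  haveI : IsReduced (Localization.AtPrime Q) :=
    isReduced_localizationPreserves Q.primeCompl (Localization.AtPrime Q) inferInstance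
  obtain ⟨⟨s, hs⟩, h⟩ := (IsLocalization.map_eq_zero_iff Q.primeCompl _ _).1 hnil.eq_zero
  exact ⟨s, hs, h⟩

section
variable {A B A₁ W : Type u} [CommRing A] [IsLocalRing A] [CommRing B] [IsLocalRing B] [CommRing A₁] [IsLocalRing A₁]
  [CommRing W] [Algebra A B] [IsLocalHom (algebraMap A B)]
  [Algebra A A₁] [IsLocalHom (algebraMap A A₁)] [Algebra A W] [Algebra A₁ W] [Algebra B W]
  [IsScalarTower A A₁ W] [IsScalarTower A B W]

/-- Kernel of reduction of `A₁ ⊗ B` to the tensor product of residue fields. -/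
theorem mem_span_of_red_eq_zero (hw : (maximalIdeal A).map (algebraMap A B) = maximalIdeal B)
    (I : Ideal (A₁ ⊗[A] B)) (hI : ∀ a ∈ maximalIdeal A₁, a ⊗ₜ[A] (1 : B) ∈ I)
    (π : A₁ ⊗[A] B →+* ResidueField A₁ ⊗[ResidueField A] ResidueField B)
    (hπ : ∀ a b, π (a ⊗ₜ[A] b) = residue A₁ a ⊗ₜ[ResidueField A] residue B b)
    (r : A₁ ⊗[A] B) (hr : π r = 0) : r ∈ I := by
  let Q := (A₁ ⊗[A] B) ⧸ I
  let q : A₁ ⊗[A] B →+* Q := Ideal.Quotient.mk I
  let iA : A₁ →+* Q := q.comp Algebra.TensorProduct.includeLeftRingHom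
  let iB : B →+* Q := q.comp (Algebra.TensorProduct.includeRight : B →ₐ[A] A₁ ⊗[A] B).toRingHom
  have hA0 : ∀ a ∈ maximalIdeal A₁, iA a = 0 := fun a ha => Ideal.Quotient.eq_zero_iff_mem.2 (hI a ha)
  have hAB : ∀ a : A, iA (algebraMap A A₁ a) = iB (algebraMap A B a) := fun a => congrArg q (by
    show algebraMap A A₁ a ⊗ₜ[A] (1 : B) = (1 : A₁) ⊗ₜ[A] algebraMap A B a
    rw [Algebra.algebraMap_eq_smul_one, Algebra.algebraMap_eq_smul_one, TensorProduct.smul_tmul])
  have hB0 : ∀ b ∈ maximalIdeal B, iB b = 0 := fun b hb => by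
    have : maximalIdeal B ≤ RingHom.ker iB := by
      rw [← hw, Ideal.map_le_iff_le_comap]
      intro a ha
      rw [Ideal.mem_comap, RingHom.mem_ker, ← hAB]
      exact hA0 _ (map_nonunit (algebraMap A A₁) a ha)
    exact this hb
  let jA : ResidueField A₁ →+* Q := Ideal.Quotient.lift _ iA hA0
  let jB : ResidueField B →+* Q := Ideal.Quotient.lift _ iB hB0
  letI : Algebra (ResidueField A) Q := (jA.comp (algebraMap (ResidueField A) (ResidueField A₁))).toAlgebra
  let jA' : ResidueField A₁ →ₐ[ResidueField A] Q := { jA with commutes' := fun _ => rfl }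
  let jB' : ResidueField B →ₐ[ResidueField A] Q :=
    { jB with
      commutes' := fun a => by
        obtain ⟨a, rfl⟩ := residue_surjective a
        exact (hAB a).symm }
  let ψ : ResidueField A₁ ⊗[ResidueField A] ResidueField B →ₐ[ResidueField A] Q :=
    Algebra.TensorProduct.lift jA' jB' (fun _ _ => Commute.all _ _)
  have key : ∀ x, ψ (π x) = q x := by
    intro x
    induction x with
    | zero => simp
    | add x y hx hy => rw [map_add, map_add, map_add, hx, hy]
    | tmul a b =>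
      rw [hπ]
      show jA (residue A₁ a) * jB (residue B b) = _
      show iA a * iB b = _
      show q (a ⊗ₜ[A] (1 : B)) * q ((1 : A₁) ⊗ₜ[A] b) = _
      rw [← map_mul, Algebra.TensorProduct.tmul_mul_tmul, mul_one, one_mul]
  exact Ideal.Quotient.eq_zero_iff_mem.1 ((key r).symm.trans (by rw [hr, map_zero]))

variable [IsDomain W] [IsDiscreteValuationRing W] [IsLocalHom (algebraMap A₁ W)] [IsLocalHom (algebraMap B W)]

/-- If the generated ring has field of fractions containing `W`, then `W` is weakly unramified with geometrically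
reduced residue field over `A₁`. -/
theorem weaklyUnramified_of_generated (ϖ : A₁) (hϖ : maximalIdeal A₁ = Ideal.span {ϖ})
    (hϖ0 : algebraMap A₁ W ϖ ≠ 0) (hw : (maximalIdeal A).map (algebraMap A B) = maximalIdeal B)
    [Algebra.IsAlgebraic (ResidueField A) (ResidueField A₁)]
    [Algebra.IsGeometricallyReduced (ResidueField A) (ResidueField B)]
    (hgen : ∀ w : W, ∃ r s : A₁ ⊗[A] B,
      Algebra.TensorProduct.lift (IsScalarTower.toAlgHom A A₁ W) (IsScalarTower.toAlgHom A B W)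
        (fun _ _ => Commute.all _ _) s ≠ 0 ∧
      w * Algebra.TensorProduct.lift (IsScalarTower.toAlgHom A A₁ W) (IsScalarTower.toAlgHom A B W)
        (fun _ _ => Commute.all _ _) s =
      Algebra.TensorProduct.lift (IsScalarTower.toAlgHom A A₁ W) (IsScalarTower.toAlgHom A B W)
        (fun _ _ => Commute.all _ _) r) :
    (maximalIdeal A₁).map (algebraMap A₁ W) = maximalIdeal W ∧
      Algebra.IsGeometricallyReduced (ResidueField A₁) (ResidueField W) := by
  classical
  let Φ : A₁ ⊗[A] B →ₐ[A] W :=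
    Algebra.TensorProduct.lift (IsScalarTower.toAlgHom A A₁ W) (IsScalarTower.toAlgHom A B W) (fun _ _ => Commute.all _ _)
  let kA := ResidueField A
  let k₁ := ResidueField A₁
  let kB := ResidueField B
  let kW := ResidueField W
  letI : Algebra kA kW := ((ResidueField.map (algebraMap A₁ W)).comp (algebraMap kA k₁)).toAlgebra
  let jB : kB →ₐ[kA] kW := { ResidueField.map (algebraMap B W) with
    commutes' := fun a => by
      obtain ⟨a, rfl⟩ := residue_surjective a
      show residue W (algebraMap B W (algebraMap A B a)) = residue W (algebraMap A₁ W (algebraMap A A₁ a))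
      rw [← IsScalarTower.algebraMap_apply, ← IsScalarTower.algebraMap_apply] }
  let χ : k₁ ⊗[kA] kB →ₐ[kA] kW :=
    Algebra.TensorProduct.lift { ResidueField.map (algebraMap A₁ W) with commutes' := fun _ => rfl } jB
      (fun _ _ => Commute.all _ _)
  let π : A₁ ⊗[A] B →+* k₁ ⊗[kA] kB := (Algebra.TensorProduct.lift
    (((Algebra.TensorProduct.includeLeft : k₁ →ₐ[kA] k₁ ⊗[kA] kB).restrictScalars A).comp
      (IsScalarTower.toAlgHom A A₁ k₁))
    (((Algebra.TensorProduct.includeRight : kB →ₐ[kA] k₁ ⊗[kA] kB).restrictScalars A).comp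
      (IsScalarTower.toAlgHom A B kB)) (fun _ _ => Commute.all _ _)).toRingHom
  have hπ : ∀ a b, π (a ⊗ₜ[A] b) = residue A₁ a ⊗ₜ[kA] residue B b := fun a b => by
    show (residue A₁ a ⊗ₜ[kA] (1 : kB)) * ((1 : k₁) ⊗ₜ[kA] residue B b) = _
    rw [Algebra.TensorProduct.tmul_mul_tmul, mul_one, one_mul]
  have hπs : Function.Surjective π := by
    intro x
    induction x with
    | zero => exact ⟨0, map_zero π⟩
    | add x y hx hy =>
      obtain ⟨a, rfl⟩ := hx
      obtain ⟨b, rfl⟩ := hy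
      exact ⟨a + b, map_add π a b⟩
    | tmul a b =>
      obtain ⟨a, rfl⟩ := residue_surjective a
      obtain ⟨b, rfl⟩ := residue_surjective b
      exact ⟨a ⊗ₜ b, hπ a b⟩
  have hχπ : ∀ x, χ (π x) = residue W (Φ x) := by
    intro x
    induction x with
    | zero => simp
    | add x y hx hy => rw [map_add, map_add, map_add, map_add, hx, hy]
    | tmul a b =>
      rw [hπ]
      show residue W (algebraMap A₁ W a) * residue W (algebraMap B W b) = residue W (algebraMap A₁ W a * algebraMap B W b)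
      rw [map_mul]
  haveI : IsReduced (k₁ ⊗[kA] kB) := inferInstance
  let Q : Ideal (k₁ ⊗[kA] kB) := RingHom.ker χ
  haveI : Q.IsPrime := RingHom.ker_isPrime _
  letI : Algebra kB (k₁ ⊗[kA] kB) := (Algebra.TensorProduct.includeRight : kB →ₐ[kA] k₁ ⊗[kA] kB).toRingHom.toAlgebra
  haveI : Algebra.IsIntegral kB (k₁ ⊗[kA] kB) := ⟨fun z => by
    induction z with
    | zero => exact isIntegral_zero
    | add x y hx hy => exact hx.add hy
    | tmul a b =>
      rw [← mul_one a, ← one_mul b, ← Algebra.TensorProduct.tmul_mul_tmul]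
      refine IsIntegral.mul ?_ (isIntegral_algebraMap (x := b))
      obtain ⟨f, hf, hfa⟩ := (Algebra.IsAlgebraic.isAlgebraic (R := kA) a).isIntegral
      refine ⟨f.map (algebraMap kA kB), hf.map _, ?_⟩
      rw [Polynomial.eval₂_map]
      have e : (algebraMap kB (k₁ ⊗[kA] kB)).comp (algebraMap kA kB) =
          (Algebra.TensorProduct.includeLeftRingHom : k₁ →+* k₁ ⊗[kA] kB).comp (algebraMap kA k₁) :=
        RingHom.ext fun c => by
          show (1 : k₁) ⊗ₜ[kA] algebraMap kA kB c = algebraMap kA k₁ c ⊗ₜ[kA] (1 : kB)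
          rw [Algebra.algebraMap_eq_smul_one, Algebra.algebraMap_eq_smul_one, TensorProduct.smul_tmul]
      rw [e]
      show f.eval₂ _ ((Algebra.TensorProduct.includeLeftRingHom : k₁ →+* k₁ ⊗[kA] kB) a) = 0
      rw [← Polynomial.hom_eval₂, hfa, map_zero]⟩
  have hQmin : ∀ P : Ideal (k₁ ⊗[kA] kB), P.IsPrime → P ≤ Q → P = Q := fun P hP hPQ => by
    haveI := hP
    haveI : P.IsMaximal := Ideal.isMaximal_of_isIntegral_of_isMaximal_comap (R := kB) P
      (by rw [(Ideal.eq_bot_or_top (P.comap (algebraMap kB (k₁ ⊗[kA] kB)))).resolve_right (Ideal.IsPrime.ne_top inferInstance)]; exact Ideal.bot_isMaximal)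
    exact Ideal.IsMaximal.eq_of_le inferInstance (Ideal.IsPrime.ne_top inferInstance) hPQ
  -- elements of the generated ring
  have hstep : ∀ r, Φ r ∈ maximalIdeal W → ∃ r' s, IsUnit (Φ s) ∧ Φ r * Φ s = algebraMap A₁ W ϖ * Φ r' := by
    intro r hr
    have h1 : π r ∈ Q := by
      rw [RingHom.mem_ker, hχπ, residue_eq_zero_iff]; exact hr
    obtain ⟨s₀, hs₀, hz⟩ := exists_notMem_mul_eq_zero hQmin h1
    obtain ⟨s, rfl⟩ := hπs s₀
    have h2 : s * r ∈ Ideal.span {ϖ ⊗ₜ[A] (1 : B)} := by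
      refine mem_span_of_red_eq_zero hw _ (fun a ha => ?_) π hπ _ (by rw [map_mul]; exact hz)
      rw [hϖ] at ha
      obtain ⟨c, rfl⟩ := Ideal.mem_span_singleton.1 ha
      exact Ideal.mem_span_singleton.2 ⟨c ⊗ₜ[A] (1 : B), by rw [Algebra.TensorProduct.tmul_mul_tmul, one_mul]⟩
    obtain ⟨r', hr'⟩ := Ideal.mem_span_singleton.1 h2
    refine ⟨r', s, ?_, ?_⟩
    · by_contra hu
      refine hs₀ ?_
      rw [RingHom.mem_ker, hχπ, residue_eq_zero_iff]
      exact hu
    · rw [mul_comm, ← map_mul, hr', map_mul]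
      congr 1
      show algebraMap A₁ W ϖ * algebraMap B W 1 = _
      rw [map_one, mul_one]
  obtain ⟨τ, hτ⟩ := IsDiscreteValuationRing.exists_irreducible W
  set ϖW := algebraMap A₁ W ϖ with hϖW
  have hϖnu : ¬ IsUnit ϖW := by
    intro hu
    have : ϖ ∈ maximalIdeal A₁ := hϖ ▸ Ideal.mem_span_singleton_self ϖ
    exact (mem_maximalIdeal ϖ).1 this (isUnit_of_map_unit (algebraMap A₁ W) ϖ hu)
  have hdec : ∀ r, Φ r ≠ 0 → ∃ (k : ℕ) (r₀ s : A₁ ⊗[A] B),
      IsUnit (Φ r₀) ∧ IsUnit (Φ s) ∧ Φ r * Φ s = ϖW ^ k * Φ r₀ := by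
    suffices ∀ N, ∀ r, Φ r ≠ 0 → τ ^ N ∣ Φ r → ¬ τ ^ (N + 1) ∣ Φ r → ∃ (k : ℕ) (r₀ s : A₁ ⊗[A] B),
        IsUnit (Φ r₀) ∧ IsUnit (Φ s) ∧ Φ r * Φ s = ϖW ^ k * Φ r₀ by
      intro r hr
      obtain ⟨N, u, hu⟩ := IsDiscreteValuationRing.eq_unit_mul_pow_irreducible hr hτ
      refine this N r hr ⟨u, by rw [hu, mul_comm]⟩ fun hd => ?_
      rw [hu, mul_comm (u : W), Units.dvd_mul_right, pow_dvd_pow_iff hτ.ne_zero hτ.not_isUnit] at hd
      omega
    intro N
    induction N using Nat.strong_induction_on with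
    | _ N ih =>
      intro r hr hdvd hndvd
      by_cases hu : IsUnit (Φ r)
      · exact ⟨0, r, 1, hu, by simp, by simp⟩
      obtain ⟨r', s, hs, hrs⟩ := hstep r hu
      have hr' : Φ r' ≠ 0 := by
        intro h0
        rw [h0, mul_zero] at hrs
        exact hr (hs.mul_left_eq_zero.1 hrs)
      obtain ⟨M, u, hM⟩ := IsDiscreteValuationRing.eq_unit_mul_pow_irreducible hr' hτ
      obtain ⟨e, v, hev⟩ := IsDiscreteValuationRing.eq_unit_mul_pow_irreducible hϖ0 hτ
      have he : e ≠ 0 := by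
        rintro rfl
        exact hϖnu (by rw [hev, pow_zero, mul_one]; exact v.isUnit)
      have hlt : M + e ≤ N := by
        by_contra hlt
        refine hndvd (hs.dvd_mul_right.1 ?_)
        rw [hrs, hM, hev]
        calc τ ^ (N + 1) ∣ τ ^ (e + M) := pow_dvd_pow τ (by omega)
          _ ∣ ↑v * τ ^ e * (↑u * τ ^ M) := ⟨v * u, by rw [pow_add]; ring⟩
      obtain ⟨k, r₀, s', hr₀, hs', heq⟩ := ih M (by omega) r' hr' ⟨u, by rw [hM, mul_comm]⟩ (fun hd => by
        rw [hM, mul_comm (u : W), Units.dvd_mul_right, pow_dvd_pow_iff hτ.ne_zero hτ.not_isUnit] at hd; omega)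
      refine ⟨k + 1, r₀, s * s', hr₀, by rw [map_mul]; exact hs.mul hs', ?_⟩
      rw [map_mul, ← mul_assoc, hrs, mul_assoc, heq, pow_succ]; ring
  have hform : ∀ w : W, w ≠ 0 → ∃ (k : ℕ) (r₀ s : A₁ ⊗[A] B),
      IsUnit (Φ r₀) ∧ IsUnit (Φ s) ∧ w * Φ s = ϖW ^ k * Φ r₀ := by
    intro w hw0
    obtain ⟨r, s, hs, hrs⟩ := hgen w
    obtain ⟨k, r₀, s₁, hr₀, hs₁, h1⟩ := hdec r (fun h0 => hs (by
      rw [show Φ r = _ from h0] at hrs
      exact (mul_eq_zero.1 hrs).resolve_left hw0))
    obtain ⟨l, t₀, t₁, ht₀, ht₁, h2⟩ := hdec s hs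
    have h3 : w * (ϖW ^ l * (Φ t₀ * Φ s₁)) = ϖW ^ k * (Φ r₀ * Φ t₁) := by
      have hrs' : w * Φ s = Φ r := hrs
      linear_combination (Φ t₁) * h1 + (Φ t₁ * Φ s₁) * hrs' - (w * Φ s₁) * h2
    have hlk : l ≤ k := by
      by_contra hlk
      rw [show l = k + (l - k - 1) + 1 by omega, pow_succ, pow_add] at h3
      have h4 : Φ r₀ * Φ t₁ = ϖW * (w * ϖW ^ (l - k - 1) * (Φ t₀ * Φ s₁)) :=
        mul_left_cancel₀ (pow_ne_zero k hϖ0) (by linear_combination -h3)
      exact hϖnu (isUnit_of_mul_isUnit_left (h4 ▸ hr₀.mul ht₁))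
    refine ⟨k - l, r₀ * t₁, t₀ * s₁, by rw [map_mul]; exact hr₀.mul ht₁, by rw [map_mul]; exact ht₀.mul hs₁, ?_⟩
    rw [map_mul, map_mul]
    rw [show k = l + (k - l) by omega, pow_add] at h3
    exact mul_left_cancel₀ (pow_ne_zero l hϖ0) (by linear_combination h3)
  constructor
  · rw [hϖ, Ideal.map_span, Set.image_singleton]
    refine le_antisymm ((Ideal.span_singleton_le_iff_mem _).2 hϖnu) ?_
    intro w hw
    rcases eq_or_ne w 0 with rfl | hw0
    · exact Ideal.zero_mem _
    obtain ⟨k, r₀, s, hr₀, hs, h⟩ := hform w hw0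
    rcases Nat.eq_zero_or_pos k with rfl | hk
    · rw [pow_zero, one_mul] at h
      exact absurd (isUnit_of_mul_isUnit_left (h ▸ hr₀)) hw
    · refine Ideal.mem_span_singleton.2 (hs.dvd_mul_right.1 ?_)
      rw [h]
      exact Dvd.dvd.mul_right (dvd_pow_self _ hk.ne') _
  · letI : Algebra (k₁ ⊗[kA] kB) kW := χ.toRingHom.toAlgebra
    haveI : IsScalarTower k₁ (k₁ ⊗[kA] kB) kW := IsScalarTower.of_algebraMap_eq fun c => by
      show algebraMap k₁ kW c = χ (c ⊗ₜ[kA] (1 : kB))
      rw [Algebra.TensorProduct.lift_tmul, map_one, mul_one]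
      rfl
    haveI : IsLocalization Q.primeCompl kW := by
      constructor
      constructor
      · exact fun y => isUnit_iff_ne_zero.2 y.2
      · intro z
        obtain ⟨w, rfl⟩ := residue_surjective z
        rcases eq_or_ne w 0 with rfl | hw0
        · exact ⟨⟨0, 1⟩, by simp⟩
        obtain ⟨k, r₀, s, hr₀, hs, h⟩ := hform w hw0
        have hsQ : π s ∉ Q := by
          rw [RingHom.mem_ker, hχπ, residue_eq_zero_iff, mem_maximalIdeal, mem_nonunits_iff, not_not]; exact hs
        refine ⟨⟨π (((ϖ ^ k : A₁) ⊗ₜ[A] (1 : B)) * r₀), ⟨π s, hsQ⟩⟩, ?_⟩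
        show residue W w * χ (π s) = χ (π _)
        rw [hχπ, hχπ, ← map_mul, h, map_mul Φ]
        congr 2
        show _ = algebraMap A₁ W (ϖ ^ k) * algebraMap B W 1
        rw [map_one, mul_one, map_pow]
      · intro x y hxy
        have h1 : x - y ∈ Q := by
          rw [RingHom.mem_ker, map_sub, sub_eq_zero]; exact hxy
        obtain ⟨s, hs, hz⟩ := exists_notMem_mul_eq_zero hQmin h1
        exact ⟨⟨s, hs⟩, sub_eq_zero.1 (by rw [← mul_sub]; exact hz)⟩
    rw [Algebra.isGeometricallyReduced_field_iff]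
    let Ω := AlgebraicClosure k₁
    haveI : Algebra.IsAlgebraic kA Ω := Algebra.IsAlgebraic.trans kA k₁ Ω
    let T := Ω ⊗[k₁] (k₁ ⊗[kA] kB)
    haveI : IsReduced T :=
      isReduced_of_injective (Algebra.TensorProduct.cancelBaseChange kA k₁ Ω Ω kB)
        (Algebra.TensorProduct.cancelBaseChange kA k₁ Ω Ω kB).injective
    letI : Algebra (k₁ ⊗[kA] kB) T := Algebra.TensorProduct.rightAlgebra
    let TW := T ⊗[k₁ ⊗[kA] kB] kW
    haveI : IsLocalization (Algebra.algebraMapSubmonoid T Q.primeCompl) TW := inferInstance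
    haveI : IsReduced TW := isReduced_localizationPreserves (Algebra.algebraMapSubmonoid T Q.primeCompl) TW inferInstance
    let e₁ := (Algebra.TensorProduct.comm k₁ Ω kW).toRingEquiv
    let e₂ := (Algebra.TensorProduct.cancelBaseChange k₁ (k₁ ⊗[kA] kB) kW kW Ω).toRingEquiv.symm
    let e₃ := (Algebra.TensorProduct.congr (AlgEquiv.refl : kW ≃ₐ[k₁ ⊗[kA] kB] kW)
      ({ Algebra.TensorProduct.comm k₁ (k₁ ⊗[kA] kB) Ω with commutes' := fun x => rfl } :
        (k₁ ⊗[kA] kB) ⊗[k₁] Ω ≃ₐ[k₁ ⊗[kA] kB] T)).toRingEquiv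
    let e₄ := (Algebra.TensorProduct.comm (k₁ ⊗[kA] kB) kW T).toRingEquiv
    let e := ((e₁.trans e₂).trans e₃).trans e₄
    exact isReduced_of_injective e e.injective

end

end Groth.Agent.WeakUnram
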