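import Groth.Agent.WeakUnram.Dvr
import Groth.Agent.WeakUnram.Core

/-! Weakly unramified extensions with geometrically reduced residue field: every extension is a solution. -/

set_option autoImplicit false
universe u

namespace Groth.Agent.WeakUnram
open IsLocalRing TensorProduct

/-- Fractions of the generated ring fill the valuation ring. -/
theorem frac_generated {A : Type u} [CommRing A] (B K L K₁ M : Type u) [CommRing B] [IsDomain B] [Field K] [Field L] [Field K₁] [Field M]
    [Algebra A B] [Algebra B L] [IsFractionRing B L] [Algebra K₁ M] [Algebra L M]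
    (hgen : Algebra.adjoin L (Set.range (algebraMap K₁ M)) = ⊤) (W : ValuationSubring M)
    [Algebra A (W.comap (algebraMap K₁ M))] [Algebra A W] (Φ : (W.comap (algebraMap K₁ M)) ⊗[A] B →ₐ[A] W)
    (hΦV : ∀ v : W.comap (algebraMap K₁ M), (Φ (v ⊗ₜ[A] (1 : B)) : M) = algebraMap K₁ M v)
    (hΦB : ∀ b : B, (Φ ((1 : W.comap (algebraMap K₁ M)) ⊗ₜ[A] b) : M) = algebraMap L M (algebraMap B L b))
    (w : W) : ∃ r s, Φ s ≠ 0 ∧ w * Φ s = Φ r := by
  classical
  let V := W.comap (algebraMap K₁ M)
  -- fractions of the generated ring form a subfield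
  let F : M → Prop := fun x => ∃ r s : V ⊗[A] B, Φ s ≠ 0 ∧ x * (Φ s : M) = (Φ r : M)
  have hFV : ∀ v : V, F (algebraMap K₁ M v) := fun v => ⟨v ⊗ₜ 1, 1, by simp, by
    rw [hΦV, map_one]; simp⟩
  have hFB : ∀ b : B, F (algebraMap L M (algebraMap B L b)) := fun b => ⟨1 ⊗ₜ b, 1, by simp, by
    rw [hΦB, map_one]; simp⟩
  have hFdiv : ∀ x y : M, F x → F y → y ≠ 0 → F (x / y) := by
    rintro x y ⟨r, s, hs, h⟩ ⟨r', s', hs', h'⟩ hy
    have hr' : Φ r' ≠ 0 := fun h0 => by
      rw [h0] at h'
      exact (mul_ne_zero hy (fun h1 => hs' (Subtype.ext h1))) h'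
    refine ⟨r * s', s * r', by rw [map_mul]; exact mul_ne_zero hs hr', ?_⟩
    rw [map_mul, map_mul]
    push_cast
    rw [← h, ← h']
    field_simp
  suffices hF : ∀ x : M, F x by
    obtain ⟨r, s, hs, h⟩ := hF w
    exact ⟨r, s, hs, Subtype.ext h⟩
  intro x
  have hx : x ∈ Algebra.adjoin L (Set.range (algebraMap K₁ M)) := by rw [hgen]; exact Algebra.mem_top
  induction hx using Algebra.adjoin_induction with
  | mem x hx =>
    obtain ⟨y, rfl⟩ := hx
    rcases V.mem_or_inv_mem y with hy | hy
    · exact hFV ⟨y, hy⟩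
    · rcases eq_or_ne y 0 with rfl | hy0
      · exact hFV ⟨0, V.zero_mem⟩
      have := hFdiv 1 _ (map_one (algebraMap K₁ M) ▸ hFV 1) (hFV ⟨y⁻¹, hy⟩)
        ((map_ne_zero_iff _ (algebraMap K₁ M).injective).2 (inv_ne_zero hy0))
      simpa using this
  | algebraMap l =>
    obtain ⟨p, q, hq, rfl⟩ := IsFractionRing.div_surjective B l
    rw [map_div₀]
    exact hFdiv _ _ (hFB p) (hFB q)
      ((map_ne_zero_iff _ (algebraMap L M).injective).2
        ((map_ne_zero_iff _ (IsFractionRing.injective B L)).2 (nonZeroDivisors.ne_zero hq)))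
  | add x y _ _ hx hy =>
    obtain ⟨r, s, hs, h⟩ := hx
    obtain ⟨r', s', hs', h'⟩ := hy
    refine ⟨r * s' + r' * s, s * s', by rw [map_mul]; exact mul_ne_zero hs hs', ?_⟩
    rw [map_add, map_mul, map_mul, map_mul]
    push_cast
    rw [← h, ← h']; ring
  | mul x y _ _ hx hy =>
    obtain ⟨r, s, hs, h⟩ := hx
    obtain ⟨r', s', hs', h'⟩ := hy
    refine ⟨r * r', s * s', by rw [map_mul]; exact mul_ne_zero hs hs', ?_⟩
    rw [map_mul, map_mul]
    push_cast
    rw [← h, ← h']; ring

theorem solution_at (A B K L : Type u) [CommRing A] [IsDomain A] [IsDiscreteValuationRing A]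
    [CommRing B] [IsDomain B] [IsDiscreteValuationRing B] [Algebra A B] [IsLocalHom (algebraMap A B)]
    (hinj : Function.Injective (algebraMap A B))
    [Field K] [Field L] [Algebra A K] [IsFractionRing A K] [Algebra B L] [IsFractionRing B L]
    [Algebra K L] [Algebra A L] [IsScalarTower A K L] [IsScalarTower A B L]
    (hw : EtRam.IsWeaklyUnramified A B) [Algebra.IsGeometricallyReduced (ResidueField A) (ResidueField B)]
    (K₁ : Type u) [Field K₁] [Algebra K K₁] [FiniteDimensional K K₁]
    (M : Type u) [Field M] [Algebra K M] [Algebra L M] [Algebra K₁ M] [IsScalarTower K L M] [IsScalarTower K K₁ M]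
    (hgen : Algebra.adjoin L (Set.range (algebraMap K₁ M)) = ⊤) (W : ValuationSubring M)
    (hW : EtRam.Dominates B ((algebraMap L M).comp (algebraMap B L)) W) :
    letI : Algebra (W.comap (algebraMap K₁ M)) W := (EtRam.inclOfComap W (algebraMap K₁ M)).toAlgebra
    EtRam.IsWeaklyUnramified (W.comap (algebraMap K₁ M)) W ∧
      @Algebra.IsGeometricallyReduced (ResidueField (W.comap (algebraMap K₁ M))) (ResidueField W) _ _
        (ResidueField.map (EtRam.inclOfComap W (algebraMap K₁ M))).toAlgebra := by
  classical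
  set V := W.comap (algebraMap K₁ M) with hV
  haveI : FiniteDimensional L M := by
    have hfin : Module.Finite L (Algebra.adjoin L (Set.range (algebraMap K₁ M))) := by
      let b := Module.finBasis K K₁
      have hle : Algebra.adjoin L (Set.range (algebraMap K₁ M)) ≤
          Algebra.adjoin L (Set.range fun i => algebraMap K₁ M (b i)) := by
        refine Algebra.adjoin_le ?_
        rintro _ ⟨x, rfl⟩
        rw [← b.sum_repr x, map_sum]
        refine sum_mem fun i _ => ?_
        rw [Algebra.smul_def, map_mul, ← IsScalarTower.algebraMap_apply, IsScalarTower.algebraMap_apply K L M,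
          ← Algebra.smul_def]
        exact Subalgebra.smul_mem _ (Algebra.subset_adjoin (Set.mem_range_self i)) _
      rw [le_antisymm hle (Algebra.adjoin_mono (by rintro _ ⟨i, rfl⟩; exact ⟨b i, rfl⟩))]
      exact Module.Finite.iff_fg.2 (fg_adjoin_of_finite (Set.finite_range _) (by
        rintro _ ⟨i, rfl⟩
        exact ((Algebra.IsIntegral.isIntegral (R := K) (b i)).map (IsScalarTower.toAlgHom K K₁ M)).tower_top))
    rw [hgen] at hfin
    exact Module.Finite.equiv (Subalgebra.topEquiv : (⊤ : Subalgebra L M) ≃ₐ[L] M).toLinearEquiv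
  letI : Algebra B M := ((algebraMap L M).comp (algebraMap B L)).toAlgebra
  haveI : IsScalarTower B L M := IsScalarTower.of_algebraMap_eq' rfl
  haveI : IsDiscreteValuationRing W := (dvr_of_dominates (A := B) (K := L) W hW).1
  letI : Algebra A K₁ := ((algebraMap K K₁).comp (algebraMap A K)).toAlgebra
  haveI : IsScalarTower A K K₁ := IsScalarTower.of_algebraMap_eq' rfl
  have hAM : ∀ a : A, algebraMap K₁ M (algebraMap A K₁ a) = algebraMap B M (algebraMap A B a) := fun a => by
    show algebraMap K₁ M (algebraMap K K₁ (algebraMap A K a)) = algebraMap L M (algebraMap B L (algebraMap A B a))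
    rw [← IsScalarTower.algebraMap_apply K K₁ M, ← IsScalarTower.algebraMap_apply A B L,
      IsScalarTower.algebraMap_apply A K L, ← IsScalarTower.algebraMap_apply K L M]
  have hVdom : EtRam.Dominates A (algebraMap A K₁) V := by
    refine ⟨fun a => ?_, fun a ha => ?_⟩
    · show algebraMap K₁ M _ ∈ W
      rw [hAM]; exact hW.1 _
    · have hmem : algebraMap A K₁ a ∈ V := by show algebraMap K₁ M _ ∈ W; rw [hAM]; exact hW.1 _
      show V.valuation ((⟨algebraMap A K₁ a, hmem⟩ : V) : K₁) < 1
      rw [← ValuationSubring.valuation_lt_one_iff, mem_maximalIdeal, mem_nonunits_iff]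
      intro hu
      have h1 := hu.map (EtRam.inclOfComap W (algebraMap K₁ M))
      have h2 := hW.2 _ (map_nonunit (algebraMap A B) a ha)
      rw [show ((algebraMap L M).comp (algebraMap B L)) (algebraMap A B a) =
        ((EtRam.inclOfComap W (algebraMap K₁ M) ⟨algebraMap A K₁ a, hmem⟩ : W) : M) from (hAM a).symm,
        ← ValuationSubring.valuation_lt_one_iff] at h2
      exact h2 h1
  obtain ⟨hVdvr, hVfrac⟩ := dvr_of_dominates (A := A) (K := K) V hVdom
  haveI := hVdvr
  letI : Algebra A V := (RingHom.codRestrict (algebraMap A K₁) V hVdom.1).toAlgebra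
  letI : Algebra B W := (RingHom.codRestrict (algebraMap B M) W hW.1).toAlgebra
  letI : Algebra V W := (EtRam.inclOfComap W (algebraMap K₁ M)).toAlgebra
  letI : Algebra A W := ((algebraMap B W).comp (algebraMap A B)).toAlgebra
  haveI : IsScalarTower A B W := IsScalarTower.of_algebraMap_eq' rfl
  haveI : IsScalarTower A V W := IsScalarTower.of_algebraMap_eq fun a => Subtype.ext (hAM a).symm
  haveI : IsLocalHom (algebraMap V W) := EtRam.isLocalHom_inclOfComap W (algebraMap K₁ M)
  haveI : IsLocalHom (algebraMap B W) := ⟨fun b hb => by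
    by_contra hna
    exact ((ValuationSubring.valuation_lt_one_iff W _).2 (hW.2 b hna)) hb⟩
  haveI : IsLocalHom (algebraMap A V) := ⟨fun a ha => by
    by_contra hna
    exact ((ValuationSubring.valuation_lt_one_iff V _).2 (hVdom.2 a hna)) ha⟩
  haveI : Algebra.IsAlgebraic (ResidueField A) (ResidueField V) := ⟨fun z => by
    obtain ⟨v, rfl⟩ := residue_surjective z
    obtain ⟨c, s, hs, hc, hs', hvs⟩ := hVfrac v
    have hi : ∀ x : V, IsIntegral A (x : K₁) → IsIntegral (ResidueField A) (residue V x) := by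
      rintro x ⟨f, hf, hfx⟩
      refine ⟨f.map (residue A), hf.map _, ?_⟩
      have hx : f.eval₂ (algebraMap A V) x = 0 := Subtype.ext (by
        have := (Polynomial.hom_eval₂ f (algebraMap A V) V.subtype x).trans hfx
        exact this.trans rfl)
      rw [Polynomial.eval₂_map, show (algebraMap (ResidueField A) (ResidueField V)).comp (residue A) =
        (residue V).comp (algebraMap A V) from RingHom.ext fun _ => rfl, ← Polynomial.hom_eval₂, hx, map_zero]
    refine IsAlgebraic.of_mul (y := residue V s) (mem_nonZeroDivisors_of_ne_zero ((residue_ne_zero_iff_isUnit s).2 hs))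
      (hi s hs').isAlgebraic ?_
    rw [← map_mul, mul_comm, hvs]
    exact (hi c hc).isAlgebraic⟩
  obtain ⟨ϖ, hϖ⟩ := IsDiscreteValuationRing.exists_irreducible V
  have hinjVW : Function.Injective (algebraMap V W) := fun x y hxy =>
    Subtype.ext ((algebraMap K₁ M).injective (congrArg Subtype.val hxy))
  let Φ : V ⊗[A] B →ₐ[A] W :=
    Algebra.TensorProduct.lift (IsScalarTower.toAlgHom A V W) (IsScalarTower.toAlgHom A B W) (fun _ _ => Commute.all _ _)
  obtain ⟨hu1, hu2⟩ := weaklyUnramified_of_generated (A := A) (B := B) (A₁ := V) (W := W) ϖ hϖ.maximalIdeal_eq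
    ((map_ne_zero_iff _ hinjVW).2 hϖ.ne_zero) hw
    (fun w => frac_generated B K L K₁ M hgen W Φ (fun v => by simp [Φ]; rfl) (fun b => by simp [Φ]; rfl) w)
  refine ⟨hu1, ?_⟩
  convert! hu2 using 1
  exact Algebra.algebra_ext _ _ fun r => by
    obtain ⟨r, rfl⟩ := residue_surjective r
    rfl

end Groth.Agent.WeakUnram
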