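import Groth.Agent.WeakUnram.Main

/-! Totally ramified separable extensions are weak solutions for weakly unramified extensions. -/

set_option autoImplicit false
universe u

namespace Groth.Agent.WeakUnram
open IsLocalRing TensorProduct

/-- The valuation ring of a totally ramified separable extension is finite over the base. -/
theorem finite_of_unique {A K K₁ : Type u} [CommRing A] [IsDomain A] [IsDiscreteValuationRing A] [Field K]
    [Algebra A K] [IsFractionRing A K] [Field K₁] [Algebra K K₁] [Algebra A K₁] [IsScalarTower A K K₁]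
    [FiniteDimensional K K₁] [Algebra.IsSeparable K K₁]
    (V : ValuationSubring K₁) (h : EtRam.Dominates A (algebraMap A K₁) V)
    (huniq : ∀ V' : ValuationSubring K₁, EtRam.Dominates A (algebraMap A K₁) V' → V' = V) :
    ∀ v : V, IsIntegral A (v : K₁) := by
  intro v
  let C := integralClosure A K₁
  obtain ⟨c, s, hs, hc, hs', hvs⟩ := (dvr_of_dominates (K := K) V h).2 v
  have hCV : ∀ x : C, (x : K₁) ∈ V := by
    intro x
    letI : Algebra A V := (RingHom.codRestrict (algebraMap A K₁) V h.1).toAlgebra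
    haveI : IsScalarTower A V K₁ := IsScalarTower.of_algebraMap_eq fun a => rfl
    obtain ⟨w, hw⟩ := IsIntegrallyClosed.isIntegral_iff.1
      (IsIntegral.tower_top (A := V) (x.2 : IsIntegral A (x : K₁)))
    rw [← hw]; exact w.2
  have hsu : IsUnit (⟨(s : K₁), hs'⟩ : C) := by
    by_contra hsu
    obtain ⟨Q, hQ, hsQ⟩ := exists_max_ideal_of_mem_nonunits (mem_nonunits_iff.2 hsu)
    haveI := hQ
    obtain ⟨V', hCV', hQV'⟩ := Ideal.image_subset_nonunits_valuationSubring (A := C.toSubring) Q hQ.ne_top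
    haveI : Algebra.IsIntegral A C := IsIntegralClosure.isIntegral_algebra A K₁
    have hQA : Q.comap (algebraMap A C) = maximalIdeal A :=
      haveI := Ideal.isMaximal_comap_of_isIntegral_of_isMaximal (R := A) Q
      IsLocalRing.eq_maximalIdeal inferInstance
    have hV' : V' = V := huniq V' ⟨fun a => hCV' (algebraMap A C a).2, fun a ha => by
      rw [← hQA] at ha
      exact hQV' ⟨algebraMap A C a, ha, rfl⟩⟩
    have h1 : (s : K₁) ∈ V'.nonunits := hQV' ⟨⟨(s : K₁), hs'⟩, hsQ, rfl⟩
    rw [hV'] at h1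
    exact (ValuationSubring.coe_mem_nonunits_iff.1 h1) hs
  obtain ⟨u, hu⟩ := hsu
  have h2 : (v : K₁) * (s : K₁) = (c : K₁) := congrArg Subtype.val hvs
  have h3 : (s : K₁) * ((u⁻¹ : Cˣ) : C).1 = 1 := by
    have := congrArg Subtype.val u.mul_inv
    rw [← show ((u : C) : K₁) = (s : K₁) from congrArg Subtype.val hu]
    exact this
  have : (v : K₁) = (c : K₁) * ((u⁻¹ : Cˣ) : C).1 := by rw [← h2, mul_assoc, h3, mul_one]
  rw [this]
  exact hc.mul ((u⁻¹ : Cˣ) : C).2

/-- Every nonzero element of the base change is a power of the uniformizer times a unit. -/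
theorem decomp {A B A₁ : Type u} [CommRing A] [IsLocalRing A] [CommRing B] [IsLocalRing B] [IsNoetherianRing B]
    [CommRing A₁] [IsLocalRing A₁] [Algebra A B] [IsLocalHom (algebraMap A B)]
    [Algebra A A₁] [IsLocalHom (algebraMap A A₁)] [Module.Finite A A₁]
    (hw : (maximalIdeal A).map (algebraMap A B) = maximalIdeal B)
    (hres : Function.Surjective (algebraMap (ResidueField A) (ResidueField A₁)))
    (ϖ : A₁) (hϖ : maximalIdeal A₁ = Ideal.span {ϖ})
    (hpow : ∃ e : ℕ, ϖ ^ e ∈ (maximalIdeal A).map (algebraMap A A₁)) :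
    ∀ x : A₁ ⊗[A] B, x ≠ 0 → ∃ (n : ℕ) (u : A₁ ⊗[A] B), IsUnit u ∧ x = ((ϖ ^ n : A₁) ⊗ₜ[A] (1 : B)) * u := by
  classical
  let kA := ResidueField A
  let k₁ := ResidueField A₁
  let kB := ResidueField B
  let T := A₁ ⊗[A] B
  let θ : kA ≃ₐ[kA] k₁ := AlgEquiv.ofBijective (Algebra.ofId kA k₁) ⟨(algebraMap kA k₁).injective, hres⟩
  let e : k₁ ⊗[kA] kB ≃ₐ[kA] kB :=
    (Algebra.TensorProduct.congr θ.symm (AlgEquiv.refl : kB ≃ₐ[kA] kB)).trans (Algebra.TensorProduct.lid kA kB)
  let π : T →+* k₁ ⊗[kA] kB := (Algebra.TensorProduct.lift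
    (((Algebra.TensorProduct.includeLeft : k₁ →ₐ[kA] k₁ ⊗[kA] kB).restrictScalars A).comp
      (IsScalarTower.toAlgHom A A₁ k₁))
    (((Algebra.TensorProduct.includeRight : kB →ₐ[kA] k₁ ⊗[kA] kB).restrictScalars A).comp
      (IsScalarTower.toAlgHom A B kB)) (fun _ _ => Commute.all _ _)).toRingHom
  have hπ : ∀ a b, π (a ⊗ₜ[A] b) = residue A₁ a ⊗ₜ[kA] residue B b := fun a b => by
    show (residue A₁ a ⊗ₜ[kA] (1 : kB)) * ((1 : k₁) ⊗ₜ[kA] residue B b) = _
    rw [Algebra.TensorProduct.tmul_mul_tmul, mul_one, one_mul]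
  let I : Ideal T := Ideal.span {ϖ ⊗ₜ[A] (1 : B)}
  have hI : ∀ a ∈ maximalIdeal A₁, a ⊗ₜ[A] (1 : B) ∈ I := fun a ha => by
    rw [hϖ] at ha
    obtain ⟨c, rfl⟩ := Ideal.mem_span_singleton.1 ha
    exact Ideal.mem_span_singleton.2 ⟨c ⊗ₜ[A] (1 : B), by rw [Algebra.TensorProduct.tmul_mul_tmul, one_mul]⟩
  have hIker : ∀ x, π x = 0 ↔ x ∈ I := by
    refine fun x => ⟨mem_span_of_red_eq_zero hw I hI π hπ x, fun hx => ?_⟩
    obtain ⟨y, rfl⟩ := Ideal.mem_span_singleton.1 hx
    rw [map_mul, hπ, (residue_eq_zero_iff ϖ).2 (hϖ ▸ Ideal.mem_span_singleton_self ϖ), zero_tmul, zero_mul]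
  have hnI : ∀ x, x ∉ I → IsUnit x := by
    intro x hx
    by_contra hu
    obtain ⟨N, hN, hxN⟩ := exists_max_ideal_of_mem_nonunits (mem_nonunits_iff.2 hu)
    haveI := hN
    letI : Algebra B T := Algebra.TensorProduct.rightAlgebra
    haveI : Module.Finite B T := Module.Finite.equiv (Algebra.TensorProduct.commRight A B A₁).toLinearEquiv
    haveI : Algebra.IsIntegral B T := Algebra.IsIntegral.of_finite B T
    have hNB : N.comap (algebraMap B T) = maximalIdeal B :=
      haveI := Ideal.isMaximal_comap_of_isIntegral_of_isMaximal (R := B) N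
      IsLocalRing.eq_maximalIdeal inferInstance
    have hIN : I ≤ N := by
      obtain ⟨k, hk⟩ := hpow
      rw [Ideal.span_singleton_le_iff_mem]
      refine (inferInstance : N.IsPrime).mem_of_pow_mem k ?_
      rw [Algebra.TensorProduct.tmul_pow, one_pow]
      have hle : (maximalIdeal A).map (algebraMap A A₁) ≤
          N.comap (Algebra.TensorProduct.includeLeftRingHom : A₁ →+* T) := by
        rw [Ideal.map_le_iff_le_comap]
        intro a ha
        rw [Ideal.mem_comap, Ideal.mem_comap]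
        show algebraMap A A₁ a ⊗ₜ[A] (1 : B) ∈ N
        rw [show algebraMap A A₁ a ⊗ₜ[A] (1 : B) = (1 : A₁) ⊗ₜ[A] algebraMap A B a by
          rw [Algebra.algebraMap_eq_smul_one, Algebra.algebraMap_eq_smul_one, TensorProduct.smul_tmul]]
        have := hw ▸ Ideal.mem_map_of_mem (algebraMap A B) ha
        rw [← hNB] at this
        exact this
      exact hle hk
    have hy : e (π x) ≠ 0 := fun h => hx ((hIker x).1 (e.injective (h.trans (map_zero e).symm)))
    obtain ⟨z, hz⟩ := residue_surjective (R := B) (e (π x))⁻¹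
    have h1 : e (π (x * ((1 : A₁) ⊗ₜ[A] z))) = 1 := by
      rw [map_mul, map_mul, hπ, map_one (residue A₁)]
      have : e ((1 : k₁) ⊗ₜ[kA] residue B z) = residue B z := by simp [e]
      rw [this, hz, mul_inv_cancel₀ hy]
    have h2 : x * ((1 : A₁) ⊗ₜ[A] z) - 1 ∈ I := (hIker _).1 (by
      rw [map_sub, map_one, sub_eq_zero]
      exact e.injective (h1.trans (map_one e).symm))
    exact hN.ne_top ((Ideal.eq_top_iff_one N).2 (by
      have := N.sub_mem (N.mul_mem_right ((1 : A₁) ⊗ₜ[A] z) hxN) (hIN h2)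
      simpa using this))
  have hInt : I ≠ ⊤ := fun h => by
    have h1 : π 1 = 0 := (hIker 1).2 (h ▸ Submodule.mem_top)
    have h2 := congrArg e h1
    simp at h2
  haveI : IsNoetherianRing T := by
    letI : Algebra B T := Algebra.TensorProduct.rightAlgebra
    haveI : Module.Finite B T := Module.Finite.equiv (Algebra.TensorProduct.commRight A B A₁).toLinearEquiv
    exact IsNoetherianRing.of_finite B T
  haveI : IsLocalRing T := by
    haveI : Nontrivial T := (subsingleton_or_nontrivial T).resolve_left fun h =>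
      hInt (Ideal.eq_top_of_isUnit_mem _ I.zero_mem (isUnit_of_subsingleton 0))
    refine IsLocalRing.of_isUnit_or_isUnit_one_sub_self fun x => ?_
    by_cases hx : x ∈ I
    · exact Or.inr (hnI _ fun h => hInt ((Ideal.eq_top_iff_one I).2 (by simpa using I.add_mem h hx)))
    · exact Or.inl (hnI _ hx)
  intro x hx
  have hbot := Ideal.iInf_pow_eq_bot_of_isLocalRing I hInt
  obtain ⟨n, hn, hn'⟩ : ∃ n, x ∈ I ^ n ∧ x ∉ I ^ (n + 1) := by
    have hex : ∃ n, x ∉ I ^ n := by
      by_contra hall
      push_neg at hall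
      exact hx ((Submodule.mem_bot T).1 (hbot ▸ Submodule.mem_iInf _ |>.2 hall))
    have h0 : Nat.find hex ≠ 0 := fun h => by
      have := Nat.find_spec hex
      rw [h, pow_zero, Ideal.one_eq_top] at this
      exact this Submodule.mem_top
    refine ⟨Nat.find hex - 1, ?_, ?_⟩
    · exact not_not.1 (Nat.find_min hex (Nat.sub_one_lt h0))
    · rw [Nat.sub_add_cancel (Nat.pos_of_ne_zero h0)]; exact Nat.find_spec hex
  rw [Ideal.span_singleton_pow, Ideal.mem_span_singleton] at hn
  obtain ⟨u, rfl⟩ := hn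
  refine ⟨n, u, hnI u fun hu => hn' ?_, by rw [Algebra.TensorProduct.tmul_pow, one_pow]⟩
  rw [pow_succ]
  exact Ideal.mul_mem_mul (Ideal.pow_mem_pow (Ideal.mem_span_singleton_self _) n) hu

theorem weakSolution_totallyRamified (A B K L : Type u) [CommRing A] [IsDomain A] [IsDiscreteValuationRing A]
    [CommRing B] [IsDomain B] [IsDiscreteValuationRing B] [Algebra A B] [IsLocalHom (algebraMap A B)]
    [Field K] [Field L] [Algebra A K] [IsFractionRing A K] [Algebra B L] [IsFractionRing B L]
    [Algebra K L] [Algebra A L] [IsScalarTower A K L] [IsScalarTower A B L]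
    (hw : EtRam.IsWeaklyUnramified A B) (K₁ : Type u) [Field K₁] [Algebra K K₁] [FiniteDimensional K K₁]
    [Algebra.IsSeparable K K₁] (ht : EtRam.IsTotallyRamified A ((algebraMap K K₁).comp (algebraMap A K))) :
    IsField (L ⊗[K] K₁) ∧ EtRam.IsWeakSolution B K L K₁ := by
  classical
  letI : Algebra A K₁ := ((algebraMap K K₁).comp (algebraMap A K)).toAlgebra
  haveI : IsScalarTower A K K₁ := IsScalarTower.of_algebraMap_eq' rfl
  obtain ⟨⟨V, hVdom⟩, huniq, hsurj⟩ := ht
  have hint := finite_of_unique (K := K) V hVdom (fun V' h' => huniq V' V h' hVdom)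
  haveI := (dvr_of_dominates (A := A) (K := K) V hVdom).1
  letI : Algebra A V := (RingHom.codRestrict (algebraMap A K₁) V hVdom.1).toAlgebra
  haveI : IsLocalHom (algebraMap A V) := ⟨fun a ha => by
    by_contra hna
    exact ((ValuationSubring.valuation_lt_one_iff V _).2 (hVdom.2 a hna)) ha⟩
  have hinjA : Function.Injective (algebraMap A K₁) :=
    (algebraMap K K₁).injective.comp (IsFractionRing.injective A K)
  let ι : V →ₐ[A] integralClosure A K₁ :=
    { toFun := fun v => ⟨v, hint v⟩
      map_one' := rfl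
      map_mul' := fun _ _ => rfl
      map_zero' := rfl
      map_add' := fun _ _ => rfl
      commutes' := fun _ => rfl }
  haveI : Module.Finite A (integralClosure A K₁) := IsIntegralClosure.finite A K K₁ (integralClosure A K₁)
  haveI : Module.Finite A V := Module.Finite.of_injective ι.toLinearMap
    (fun x y hxy => Subtype.ext (congrArg (fun z : integralClosure A K₁ => (z : K₁)) hxy))
  have hres : Function.Surjective (algebraMap (ResidueField A) (ResidueField V)) := fun z => by
    obtain ⟨a, ha⟩ := hsurj V hVdom z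
    exact ⟨residue A a, ha⟩
  obtain ⟨ϖ, hϖ⟩ := IsDiscreteValuationRing.exists_irreducible V
  obtain ⟨π, hπ⟩ := IsDiscreteValuationRing.exists_irreducible A
  have hπV : algebraMap A V π ≠ 0 := fun h => hπ.ne_zero (hinjA ((congrArg Subtype.val h).trans (map_zero _).symm))
  obtain ⟨e₀, u₀, hu₀⟩ := IsDiscreteValuationRing.eq_unit_mul_pow_irreducible hπV hϖ
  have hpow : ∃ e : ℕ, ϖ ^ e ∈ (maximalIdeal A).map (algebraMap A V) := by
    refine ⟨e₀, ?_⟩
    have := Ideal.mem_map_of_mem (algebraMap A V) (show π ∈ maximalIdeal A from hπ.not_isUnit)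
    rwa [hu₀, Ideal.unit_mul_mem_iff_mem _ u₀.isUnit] at this
  have hdec := decomp (A := A) (B := B) (A₁ := V) hw hres ϖ hϖ.maximalIdeal_eq hpow
  -- the generic fibre
  let T := V ⊗[A] B
  let Ω := L ⊗[K] K₁
  have hAΩ : ∀ a : A, (algebraMap A L a) ⊗ₜ[K] (1 : K₁) = (1 : L) ⊗ₜ[K] algebraMap A K₁ a := fun a => by
    rw [IsScalarTower.algebraMap_apply A K L, IsScalarTower.algebraMap_apply A K K₁, Algebra.algebraMap_eq_smul_one,
      Algebra.algebraMap_eq_smul_one (algebraMap A K a), TensorProduct.smul_tmul]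
  let gV : V →ₐ[A] Ω :=
    { (Algebra.TensorProduct.includeRight : K₁ →ₐ[K] Ω).toRingHom.comp V.subtype with
      commutes' := fun a => (hAΩ a).symm }
  let gB : B →ₐ[A] Ω :=
    { (Algebra.TensorProduct.includeLeftRingHom : L →+* Ω).comp (algebraMap B L) with
      commutes' := fun a => by
        show (algebraMap B L (algebraMap A B a)) ⊗ₜ[K] (1 : K₁) = _
        rw [← IsScalarTower.algebraMap_apply]
        rfl }
  let g : T →ₐ[A] Ω := Algebra.TensorProduct.lift gV gB (fun _ _ => Commute.all _ _)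
  haveI : Nontrivial Ω := Algebra.TensorProduct.nontrivial_of_algebraMap_injective_of_isDomain K L K₁
    (algebraMap K L).injective (algebraMap K K₁).injective
  have hgV : ∀ v : V, g (v ⊗ₜ[A] (1 : B)) = gV v := fun v => by
    show Algebra.TensorProduct.lift gV gB _ _ = _
    rw [Algebra.TensorProduct.lift_tmul, map_one, mul_one]
  have hgu : ∀ n : ℕ, IsUnit (gV (ϖ ^ n)) := fun n =>
    (isUnit_iff_ne_zero.2 (fun h => pow_ne_zero n hϖ.ne_zero (Subtype.ext h))).map
      (Algebra.TensorProduct.includeRight : K₁ →ₐ[K] Ω)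
  have hginj : Function.Injective g := by
    rw [injective_iff_map_eq_zero]
    intro x hx
    by_contra hx0
    obtain ⟨n, u, hu, rfl⟩ := hdec x hx0
    rw [map_mul] at hx
    have h1 := (hu.map g).mul_left_eq_zero.1 hx
    rw [hgV] at h1
    exact (hgu n).ne_zero h1
  let den : B → Ω := fun b => (algebraMap B L b) ⊗ₜ[K] (1 : K₁)
  have hdenu : ∀ b, b ≠ 0 → IsUnit (den b) := fun b hb =>
    (isUnit_iff_ne_zero.2 ((map_ne_zero_iff _ (IsFractionRing.injective B L)).2 hb)).map
      (Algebra.TensorProduct.includeLeftRingHom : L →+* Ω)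
  have hgden : ∀ b, g ((1 : V) ⊗ₜ[A] b) = den b := fun b => by
    show Algebra.TensorProduct.lift gV gB _ _ = _
    rw [Algebra.TensorProduct.lift_tmul, map_one, one_mul]
    rfl
  have hclear : ∀ z : Ω, ∃ b : B, b ≠ 0 ∧ den b * z ∈ Set.range g := by
    intro z
    refine TensorProduct.induction_on (motive := fun z : L ⊗[K] K₁ => ∃ b : B, b ≠ 0 ∧ den b * z ∈ Set.range g) z ?_ ?_ ?_
    · exact ⟨1, one_ne_zero, 0, by rw [mul_zero, map_zero]⟩
    rotate_left
    · intro x y hx hy
      obtain ⟨b, hb, r, hr⟩ := hx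
      obtain ⟨b', hb', r', hr'⟩ := hy
      refine ⟨b * b', mul_ne_zero hb hb', (1 : V) ⊗ₜ b' * r + (1 : V) ⊗ₜ b * r', ?_⟩
      rw [map_add, map_mul, map_mul, hgden, hgden, hr, hr']
      show _ = (algebraMap B L (b * b')) ⊗ₜ[K] (1 : K₁) * (x + y)
      rw [map_mul, show ((algebraMap B L b * algebraMap B L b') ⊗ₜ[K] (1 : K₁)) = den b * den b' by
        exact ((Algebra.TensorProduct.tmul_mul_tmul _ _ _ _).trans (by rw [mul_one])).symm]
      ring
    · intro l k
      obtain ⟨p, q, hq, rfl⟩ := IsFractionRing.div_surjective B l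
      obtain ⟨⟨a, ha⟩, hak⟩ := IsIntegral.exists_multiple_integral_of_isLocalization (nonZeroDivisors A) (Rₘ := K) k
        (Algebra.IsIntegral.isIntegral k)
      have hkV : algebraMap A K₁ a * k ∈ V := by
        haveI : IsScalarTower A V K₁ := IsScalarTower.of_algebraMap_eq fun a => rfl
        have hi : IsIntegral A (algebraMap A K₁ a * k) := by
          rw [← Algebra.smul_def]; exact hak
        obtain ⟨w, hw⟩ := IsIntegrallyClosed.isIntegral_iff.1 (IsIntegral.tower_top (A := V) hi)
        rw [← hw]; exact w.2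
      have hab : algebraMap A B a ≠ 0 := fun h => by
        have : algebraMap A L a = 0 := by rw [IsScalarTower.algebraMap_apply A B L, h, map_zero]
        rw [IsScalarTower.algebraMap_apply A K L, map_eq_zero,
          map_eq_zero_iff _ (IsFractionRing.injective A K)] at this
        exact nonZeroDivisors.ne_zero ha this
      refine ⟨q * algebraMap A B a, mul_ne_zero (nonZeroDivisors.ne_zero hq) hab,
        (⟨_, hkV⟩ : V) ⊗ₜ[A] p, ?_⟩
      show gV ⟨_, hkV⟩ * gB p = _
      show ((1 : L) ⊗ₜ[K] (algebraMap A K₁ a * k)) * (algebraMap B L p ⊗ₜ[K] (1 : K₁)) =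
        (algebraMap B L (q * algebraMap A B a) ⊗ₜ[K] (1 : K₁)) * ((algebraMap B L p / algebraMap B L q) ⊗ₜ[K] k)
      rw [map_mul, ← IsScalarTower.algebraMap_apply, Algebra.TensorProduct.tmul_mul_tmul,
        Algebra.TensorProduct.tmul_mul_tmul, one_mul, mul_one, one_mul,
        show algebraMap B L q * algebraMap A L a * (algebraMap B L p / algebraMap B L q) =
          algebraMap A L a * algebraMap B L p by
            field_simp [(map_ne_zero_iff _ (IsFractionRing.injective B L)).2 (nonZeroDivisors.ne_zero hq)],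
        show algebraMap A L a * algebraMap B L p = algebraMap A K a • algebraMap B L p by
          rw [Algebra.smul_def, ← IsScalarTower.algebraMap_apply],
        TensorProduct.smul_tmul, Algebra.smul_def, ← IsScalarTower.algebraMap_apply]
  have hTdom : ∀ x y : T, x * y = 0 → x = 0 ∨ y = 0 := by
    intro x y hxy
    by_contra hne
    push_neg at hne
    obtain ⟨n, u, hu, rfl⟩ := hdec x hne.1
    obtain ⟨m, v, hv, rfl⟩ := hdec y hne.2
    rw [mul_mul_mul_comm, Algebra.TensorProduct.tmul_mul_tmul, ← pow_add, one_mul] at hxy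
    have h1 := congrArg g ((hu.mul hv).mul_left_eq_zero.1 hxy)
    rw [map_zero] at h1
    rw [hgV] at h1
    exact (hgu (n + m)).ne_zero h1
  haveI : NoZeroDivisors Ω := ⟨fun {z w} h => by
    obtain ⟨b, hb, r, hr⟩ := hclear z
    obtain ⟨b', hb', r', hr'⟩ := hclear w
    have h0 : r * r' = 0 := hginj (by rw [map_mul, hr, hr', map_zero, mul_mul_mul_comm, h, mul_zero])
    rcases hTdom r r' h0 with h1 | h1
    · left; rw [h1, map_zero] at hr; exact (hdenu b hb).mul_right_eq_zero.1 hr.symm
    · right; rw [h1, map_zero] at hr'; exact (hdenu b' hb').mul_right_eq_zero.1 hr'.symm⟩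
  haveI : IsDomain Ω := NoZeroDivisors.to_isDomain Ω
  haveI : IsArtinianRing Ω := IsArtinianRing.of_finite L Ω
  refine ⟨IsArtinianRing.isField_of_isDomain Ω, fun M _ _ _ _ _ _ hgen W hW => ?_⟩
  letI : Algebra B M := ((algebraMap L M).comp (algebraMap B L)).toAlgebra
  have hAM : ∀ a : A, algebraMap K₁ M (algebraMap A K₁ a) = algebraMap B M (algebraMap A B a) := fun a => by
    show algebraMap K₁ M (algebraMap K K₁ (algebraMap A K a)) = algebraMap L M (algebraMap B L (algebraMap A B a))
    rw [← IsScalarTower.algebraMap_apply K K₁ M, ← IsScalarTower.algebraMap_apply A B L,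
      IsScalarTower.algebraMap_apply A K L, ← IsScalarTower.algebraMap_apply K L M]
  have hWV : W.comap (algebraMap K₁ M) = V := by
    refine huniq _ V ⟨fun a => ?_, fun a ha => ?_⟩ hVdom
    · show algebraMap K₁ M _ ∈ W
      exact (hAM a).symm ▸ hW.1 _
    · have hmem : algebraMap A K₁ a ∈ W.comap (algebraMap K₁ M) := by
        show algebraMap K₁ M _ ∈ W; rw [hAM]; exact hW.1 _
      show (W.comap (algebraMap K₁ M)).valuation ((⟨algebraMap A K₁ a, hmem⟩ : W.comap (algebraMap K₁ M)) : K₁) < 1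
      rw [← ValuationSubring.valuation_lt_one_iff, mem_maximalIdeal, mem_nonunits_iff]
      intro hu
      have h1 := hu.map (EtRam.inclOfComap W (algebraMap K₁ M))
      have h2 := hW.2 _ (map_nonunit (algebraMap A B) a ha)
      rw [show ((algebraMap L M).comp (algebraMap B L)) (algebraMap A B a) =
        ((EtRam.inclOfComap W (algebraMap K₁ M) ⟨algebraMap A K₁ a, hmem⟩ : W) : M) from (hAM a).symm,
        ← ValuationSubring.valuation_lt_one_iff] at h2
      exact h2 h1
  subst hWV
  letI : Algebra B W := (RingHom.codRestrict (algebraMap B M) W hW.1).toAlgebra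
  letI : Algebra (W.comap (algebraMap K₁ M)) W := (EtRam.inclOfComap W (algebraMap K₁ M)).toAlgebra
  letI : Algebra A W := ((algebraMap B W).comp (algebraMap A B)).toAlgebra
  haveI : IsScalarTower A B W := IsScalarTower.of_algebraMap_eq' rfl
  haveI : IsScalarTower A (W.comap (algebraMap K₁ M)) W :=
    IsScalarTower.of_algebraMap_eq fun a => Subtype.ext (hAM a).symm
  haveI : IsLocalHom (algebraMap (W.comap (algebraMap K₁ M)) W) :=
    EtRam.isLocalHom_inclOfComap W (algebraMap K₁ M)
  let Φ : T →ₐ[A] W :=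
    Algebra.TensorProduct.lift (IsScalarTower.toAlgHom A (W.comap (algebraMap K₁ M)) W) (IsScalarTower.toAlgHom A B W)
      (fun _ _ => Commute.all _ _)
  set ϖW := algebraMap (W.comap (algebraMap K₁ M)) W ϖ with hϖW
  have hϖW0 : ϖW ≠ 0 := fun h => hϖ.ne_zero (Subtype.ext ((algebraMap K₁ M).injective
    ((congrArg Subtype.val h).trans (map_zero _).symm)))
  have hϖnu : ¬ IsUnit ϖW := fun hu => hϖ.not_isUnit (isUnit_of_map_unit (algebraMap (W.comap (algebraMap K₁ M)) W) ϖ hu)
  have hΦ : ∀ x : T, x ≠ 0 → ∃ (n : ℕ) (u : Wˣ), Φ x = ϖW ^ n * (u : W) := fun x hx => by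
    obtain ⟨n, u, hu, rfl⟩ := hdec x hx
    refine ⟨n, (hu.map Φ).unit, ?_⟩
    rw [map_mul, IsUnit.unit_spec]
    congr 1
    show Algebra.TensorProduct.lift _ _ _ _ = _
    rw [Algebra.TensorProduct.lift_tmul, map_one, mul_one, map_pow]
    rfl
  show (maximalIdeal _).map (algebraMap (W.comap (algebraMap K₁ M)) W) = maximalIdeal W
  rw [hϖ.maximalIdeal_eq, Ideal.map_span, Set.image_singleton]
  refine le_antisymm ((Ideal.span_singleton_le_iff_mem _).2 hϖnu) fun w hw' => ?_
  rcases eq_or_ne w 0 with rfl | hw0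
  · exact Ideal.zero_mem _
  obtain ⟨r, s, hs, hrs⟩ := frac_generated (A := A) B K L K₁ M hgen W Φ
    (fun v => by simp [Φ]; rfl) (fun b => by simp [Φ]; rfl) w
  have hs0 : s ≠ 0 := fun h => hs (by rw [h, map_zero])
  have hr0 : r ≠ 0 := fun h => hw0 ((mul_eq_zero.1 (hrs.trans (by rw [h, map_zero]))).resolve_right hs)
  obtain ⟨k, u, hu⟩ := hΦ r hr0
  obtain ⟨l, v, hv⟩ := hΦ s hs0
  rw [hu, hv] at hrs
  rcases Nat.lt_or_ge l k with hlk | hlk
  · refine Ideal.mem_span_singleton.2 ((Units.dvd_mul_right (u := v)).1 ?_)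
    rw [show k = l + (k - l - 1) + 1 by omega, pow_succ, pow_add] at hrs
    refine ⟨ϖW ^ (k - l - 1) * (u : W), mul_left_cancel₀ (pow_ne_zero l hϖW0) ?_⟩
    rw [← hϖW]
    linear_combination hrs
  · exfalso
    rw [show l = k + (l - k) by omega, pow_add] at hrs
    have h4 : w * (ϖW ^ (l - k) * (v : W)) = u := mul_left_cancel₀ (pow_ne_zero k hϖW0) (by linear_combination hrs)
    exact (mem_maximalIdeal w).1 hw' (isUnit_of_mul_isUnit_left (h4.symm ▸ u.isUnit))

end Groth.Agent.WeakUnram
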