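import Groth.Agent.WeakUnram.RootTame
import Groth.Agent.S1989
import Groth.Agent.S1990

/-! Composita and Galois closures of tame and unramified extensions. -/

set_option autoImplicit false
universe u

namespace Groth.Agent.WeakUnram
open IsLocalRing

variable (A K : Type u) [CommRing A] [IsDomain A] [IsDiscreteValuationRing A] [Field K] [Algebra A K] [IsFractionRing A K]

/-- A generated compositum of tame (resp. unramified) extensions is tame (resp. unramified). -/
theorem generated_compositum (L₁ L₂ M : Type u) [Field L₁] [Field L₂] [Field M] [Algebra K L₁] [Algebra K L₂]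
    [Algebra K M] [Algebra L₁ M] [Algebra L₂ M] [IsScalarTower K L₁ M] [IsScalarTower K L₂ M]
    [FiniteDimensional K L₁] [FiniteDimensional K L₂] [Algebra.IsSeparable K L₁] [Algebra.IsSeparable K L₂]
    (hgen : Algebra.adjoin L₁ (Set.range (algebraMap L₂ M)) = ⊤) :
    (EtRam.IsTamelyRamified A ((algebraMap K L₁).comp (algebraMap A K)) →
      EtRam.IsTamelyRamified A ((algebraMap K L₂).comp (algebraMap A K)) →
      EtRam.IsTamelyRamified A ((algebraMap K M).comp (algebraMap A K))) ∧
    (EtRam.IsUnramifiedExt A ((algebraMap K L₁).comp (algebraMap A K)) →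
      EtRam.IsUnramifiedExt A ((algebraMap K L₂).comp (algebraMap A K)) →
      EtRam.IsUnramifiedExt A ((algebraMap K M).comp (algebraMap A K))) := by
  haveI := finite_of_generated K L₁ L₂ M hgen
  haveI : FiniteDimensional K M := FiniteDimensional.trans K L₁ M
  haveI := separable_of_generated K L₁ L₂ M hgen
  obtain ⟨htame, hunr⟩ := S1990.result A K L₁ M
  letI : Algebra A L₁ := ((algebraMap K L₁).comp (algebraMap A K)).toAlgebra
  haveI : IsScalarTower A K L₁ := IsScalarTower.of_algebraMap_eq' rfl
  refine ⟨fun h₁ h₂ => htame h₁ fun V hV => ?_, fun h₁ h₂ => hunr h₁ fun V hV => ?_⟩ <;>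
  · haveI := (dvr_of_dominates (A := A) (K := K) V hV).1
    letI : Algebra A V := (RingHom.codRestrict ((algebraMap K L₁).comp (algebraMap A K)) V hV.1).toAlgebra
    haveI : IsLocalHom (algebraMap A V) := ⟨fun a ha => by
      by_contra hna
      exact ((ValuationSubring.valuation_lt_one_iff V _).2 (hV.2 a hna)) ha⟩
    haveI : IsScalarTower A V L₁ := IsScalarTower.of_algebraMap_eq fun a => rfl
    first
      | exact tame_baseChange A V K L₁ L₂ M hgen h₂
      | exact unramified_baseChange A V K L₁ L₂ M hgen h₂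

theorem exists_generated_compositum (L₁ L₂ : Type u) [Field L₁] [Field L₂] [Algebra K L₁] [Algebra K L₂]
    [FiniteDimensional K L₁] [FiniteDimensional K L₂] [Algebra.IsSeparable K L₁] [Algebra.IsSeparable K L₂] :
    (EtRam.IsUnramifiedExt A ((algebraMap K L₁).comp (algebraMap A K)) →
      EtRam.IsUnramifiedExt A ((algebraMap K L₂).comp (algebraMap A K)) →
      ∃ (M : Type u) (_ : Field M) (_ : Algebra K M) (_ : FiniteDimensional K M) (_ : Algebra.IsSeparable K M)
        (_ : L₁ →ₐ[K] M) (_ : L₂ →ₐ[K] M), EtRam.IsUnramifiedExt A ((algebraMap K M).comp (algebraMap A K))) ∧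
    (EtRam.IsTamelyRamified A ((algebraMap K L₁).comp (algebraMap A K)) →
      EtRam.IsTamelyRamified A ((algebraMap K L₂).comp (algebraMap A K)) →
      ∃ (M : Type u) (_ : Field M) (_ : Algebra K M) (_ : FiniteDimensional K M) (_ : Algebra.IsSeparable K M)
        (_ : L₁ →ₐ[K] M) (_ : L₂ →ₐ[K] M), EtRam.IsTamelyRamified A ((algebraMap K M).comp (algebraMap A K))) := by
  obtain ⟨M, _, _, i, j, hgen⟩ := exists_compositum K L₁ L₂
  letI : Algebra L₁ M := i.toRingHom.toAlgebra
  letI : Algebra L₂ M := j.toRingHom.toAlgebra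
  haveI : IsScalarTower K L₁ M := IsScalarTower.of_algebraMap_eq fun k => (i.commutes k).symm
  haveI : IsScalarTower K L₂ M := IsScalarTower.of_algebraMap_eq fun k => (j.commutes k).symm
  haveI := finite_of_generated K L₁ L₂ M hgen
  have hf : FiniteDimensional K M := FiniteDimensional.trans K L₁ M
  have hs := separable_of_generated K L₁ L₂ M hgen
  obtain ⟨ht, hu⟩ := generated_compositum A K L₁ L₂ M hgen
  exact ⟨fun h₁ h₂ => ⟨M, _, _, hf, hs, i, j, hu h₁ h₂⟩, fun h₁ h₂ => ⟨M, _, _, hf, hs, i, j, ht h₁ h₂⟩⟩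

/-- Tameness and unramifiedness descend along embeddings. -/
theorem of_algHom (L M : Type u) [Field L] [Field M] [Algebra K L] [Algebra K M] [FiniteDimensional K M]
    [Algebra.IsSeparable K M] (f : L →ₐ[K] M) :
    (EtRam.IsTamelyRamified A ((algebraMap K M).comp (algebraMap A K)) →
      EtRam.IsTamelyRamified A ((algebraMap K L).comp (algebraMap A K))) ∧
    (EtRam.IsUnramifiedExt A ((algebraMap K M).comp (algebraMap A K)) →
      EtRam.IsUnramifiedExt A ((algebraMap K L).comp (algebraMap A K))) := by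
  letI : Algebra L M := f.toRingHom.toAlgebra
  haveI : IsScalarTower K L M := IsScalarTower.of_algebraMap_eq fun k => (f.commutes k).symm
  exact S1989.result A K L M

/-- Tame and unramified extensions have tame and unramified Galois closures. -/
theorem galois_closure (L : Type u) [Field L] [Algebra K L] [FiniteDimensional K L] [Algebra.IsSeparable K L] :
    (EtRam.IsUnramifiedExt A ((algebraMap K L).comp (algebraMap A K)) →
      ∃ (M : Type u) (_ : Field M) (_ : Algebra K M) (_ : FiniteDimensional K M) (_ : IsGalois K M) (_ : L →ₐ[K] M),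
        EtRam.IsUnramifiedExt A ((algebraMap K M).comp (algebraMap A K))) ∧
    (EtRam.IsTamelyRamified A ((algebraMap K L).comp (algebraMap A K)) →
      ∃ (M : Type u) (_ : Field M) (_ : Algebra K M) (_ : FiniteDimensional K M) (_ : IsGalois K M) (_ : L →ₐ[K] M),
        EtRam.IsTamelyRamified A ((algebraMap K M).comp (algebraMap A K))) := by
  classical
  let Ω := AlgebraicClosure L
  haveI : IsAlgClosure K Ω := IsAlgClosure.ofAlgebraic K L Ω
  haveI : Normal K Ω := IsAlgClosure.normal K Ω
  let ι : L →ₐ[K] Ω := IsScalarTower.toAlgHom K L Ω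
  let P : IntermediateField K Ω → Prop := fun E =>
    FiniteDimensional K E ∧ Algebra.IsSeparable K E ∧
      (EtRam.IsUnramifiedExt A ((algebraMap K L).comp (algebraMap A K)) →
        EtRam.IsUnramifiedExt A ((algebraMap K E).comp (algebraMap A K))) ∧
      (EtRam.IsTamelyRamified A ((algebraMap K L).comp (algebraMap A K)) →
        EtRam.IsTamelyRamified A ((algebraMap K E).comp (algebraMap A K)))
  have hσ : ∀ σ : L →ₐ[K] Ω, P σ.fieldRange := fun σ => by
    let e : L ≃ₐ[K] σ.fieldRange := AlgEquiv.ofInjectiveField σ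
    haveI : Algebra.IsSeparable K σ.fieldRange := AlgEquiv.Algebra.isSeparable e
    haveI : FiniteDimensional K σ.fieldRange := Module.Finite.equiv e.toLinearEquiv
    exact ⟨inferInstance, inferInstance, fun h => (of_algHom A K σ.fieldRange L e.symm.toAlgHom).2 h,
      fun h => (of_algHom A K σ.fieldRange L e.symm.toAlgHom).1 h⟩
  have hsup : ∀ E F, P E → P F → P (E ⊔ F) := by
    rintro E F ⟨hE, hEs, hEu, hEt⟩ ⟨hF, hFs, hFu, hFt⟩
    letI : Algebra E ↥(E ⊔ F) := (IntermediateField.inclusion (le_sup_left : E ≤ E ⊔ F)).toRingHom.toAlgebra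
    letI : Algebra F ↥(E ⊔ F) := (IntermediateField.inclusion (le_sup_right : F ≤ E ⊔ F)).toRingHom.toAlgebra
    haveI : IsScalarTower K E ↥(E ⊔ F) := IsScalarTower.of_algebraMap_eq fun k => rfl
    haveI : IsScalarTower K F ↥(E ⊔ F) := IsScalarTower.of_algebraMap_eq fun k => rfl
    have hgen : Algebra.adjoin E (Set.range (algebraMap F ↥(E ⊔ F))) = ⊤ := by
      refine Algebra.eq_top_iff.2 fun z => ?_
      have hz : (z : Ω) ∈ E.toSubalgebra ⊔ F.toSubalgebra := by
        rw [← IntermediateField.sup_toSubalgebra_of_left E F]; exact z.2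
      have hle : E.toSubalgebra ⊔ F.toSubalgebra ≤
          ((Algebra.adjoin E (Set.range (algebraMap F ↥(E ⊔ F)))).restrictScalars K).map (E ⊔ F).val := by
        refine sup_le (fun x hx => ?_) (fun x hx => ?_)
        · exact ⟨algebraMap E ↥(E ⊔ F) ⟨x, hx⟩,
            Subalgebra.algebraMap_mem (Algebra.adjoin E (Set.range (algebraMap F ↥(E ⊔ F)))) ⟨x, hx⟩, rfl⟩
        · exact ⟨algebraMap F ↥(E ⊔ F) ⟨x, hx⟩, Algebra.subset_adjoin ⟨⟨x, hx⟩, rfl⟩, rfl⟩
      obtain ⟨w, hw, hwz⟩ := hle hz
      rw [← Subtype.ext (hwz : (w : Ω) = (z : Ω))]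
      exact hw
    haveI := finite_of_generated K E F ↥(E ⊔ F) hgen
    obtain ⟨ht, hu⟩ := generated_compositum A K E F ↥(E ⊔ F) hgen
    exact ⟨FiniteDimensional.trans K E ↥(E ⊔ F), separable_of_generated K E F ↥(E ⊔ F) hgen,
      fun h => hu (hEu h) (hFu h), fun h => ht (hEt h) (hFt h)⟩
  let N : IntermediateField K Ω := IntermediateField.normalClosure K L Ω
  have hN : P N := by
    haveI : Fintype (L →ₐ[K] Ω) := Fintype.ofFinite _
    have : N = (Finset.univ : Finset (L →ₐ[K] Ω)).sup fun σ => σ.fieldRange := by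
      rw [Finset.sup_univ_eq_iSup]; rfl
    rw [this]
    exact Finset.sup_induction (p := fun E => P E) (by
      have h0 := hσ ι
      haveI := h0.1
      haveI := h0.2.1
      exact ⟨inferInstance, inferInstance,
        fun h => (of_algHom A K (⊥ : IntermediateField K Ω) ι.fieldRange
          (IntermediateField.inclusion bot_le)).2 (h0.2.2.1 h),
        fun h => (of_algHom A K (⊥ : IntermediateField K Ω) ι.fieldRange
          (IntermediateField.inclusion bot_le)).1 (h0.2.2.2 h)⟩) (fun E hE F hF => hsup E F hE hF) fun σ _ => hσ σ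
  obtain ⟨hf, hs, hu, ht⟩ := hN
  haveI : IsGalois K N := ⟨⟩
  let j : L →ₐ[K] N := (IntermediateField.inclusion (le_iSup (fun σ : L →ₐ[K] Ω => σ.fieldRange) ι)).comp
    (AlgEquiv.ofInjectiveField ι).toAlgHom
  exact ⟨fun h => ⟨N, inferInstance, inferInstance, hf, inferInstance, j, hu h⟩,
    fun h => ⟨N, inferInstance, inferInstance, hf, inferInstance, j, ht h⟩⟩

end Groth.Agent.WeakUnram
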