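import Groth.Agent.WeakUnram.Closure
import Groth.Agent.WeakUnram.EtalePlace

/-! Adjoining prime-to-p roots of units and uniformizers is tame. -/

set_option autoImplicit false
universe u

namespace Groth.Agent.WeakUnram
open IsLocalRing Polynomial IntermediateField

/-- `Xⁿ - u` defines an unramified algebra for units `n` and `u`. -/
theorem formallyUnramified_root {A : Type u} [CommRing A] (n : ℕ) (hn : IsUnit (n : A)) (a : A) (ha : IsUnit a) :
    Algebra.FormallyUnramified A (AdjoinRoot (X ^ n - C a : A[X])) := by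
  set f : A[X] := X ^ n - C a with hf
  let S := AdjoinRoot f
  let D := KaehlerDifferential.D A S
  constructor
  refine subsingleton_of_forall_eq 0 fun ω => ?_
  have hω : ω ∈ Submodule.span S (Set.range D) := by
    rw [KaehlerDifferential.span_range_derivation]; exact Submodule.mem_top
  have hroot : AdjoinRoot.root f ^ n = algebraMap A S a := by
    have h := AdjoinRoot.eval₂_root f
    rw [hf, eval₂_sub, eval₂_X_pow, eval₂_C, sub_eq_zero] at h
    exact h
  have hD : D (AdjoinRoot.root f) = 0 := by
    rcases Nat.eq_zero_or_pos n with h0 | h0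
    · subst h0
      rw [Nat.cast_zero] at hn
      haveI : Subsingleton A := isUnit_zero_iff.1 hn |> fun h => subsingleton_of_zero_eq_one h
      haveI : Subsingleton S := Module.subsingleton A S
      rw [Subsingleton.elim (AdjoinRoot.root f) 0, map_zero]
    have h1 := congrArg D hroot
    rw [Derivation.leibniz_pow, Derivation.map_algebraMap] at h1
    have hru : IsUnit (AdjoinRoot.root f) := (isUnit_pow_iff h0.ne').1 (hroot ▸ ha.map (algebraMap A S))
    have hnS : IsUnit (n : S) := by rw [← map_natCast (algebraMap A S)]; exact hn.map _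
    rw [← Nat.cast_smul_eq_nsmul S, smul_smul] at h1
    exact ((hnS.mul (hru.pow (n - 1))).smul_eq_zero).1 h1
  induction hω using Submodule.span_induction with
  | mem x hx =>
    obtain ⟨s, rfl⟩ := hx
    induction s using AdjoinRoot.induction_on with
    | _ p =>
      induction p using Polynomial.induction_on' with
      | add p q hp hq => rw [map_add, map_add, hp, hq, add_zero]
      | monomial k c =>
        rw [← C_mul_X_pow_eq_monomial, map_mul, map_pow, AdjoinRoot.mk_C, AdjoinRoot.mk_X,
          show AdjoinRoot.of f c = algebraMap A S c from rfl, Derivation.leibniz, Derivation.map_algebraMap,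
          Derivation.leibniz_pow, hD, smul_zero, smul_zero, smul_zero, smul_zero, add_zero]
  | zero => rfl
  | add x y _ _ hx hy => rw [hx, hy, add_zero]
  | smul s x _ hx => rw [hx, smul_zero]

/-- A simple Kummer extension of invertible order by a unit or a uniformizer is tame and separable. -/
theorem tame_adjoin_root {A K F : Type u} [CommRing A] [IsDomain A] [IsDiscreteValuationRing A] [Field K]
    [Algebra A K] [IsFractionRing A K] [Field F] [Algebra K F] (n : ℕ) (hn : IsUnit (n : A)) (a : A)
    (ha : IsUnit a ∨ Irreducible a) (x : F) (hx : x ^ n = algebraMap K F (algebraMap A K a)) :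
    FiniteDimensional K K⟮x⟯ ∧ Algebra.IsSeparable K K⟮x⟯ ∧
      EtRam.IsTamelyRamified A ((algebraMap K K⟮x⟯).comp (algebraMap A K)) := by
  have hn0 : n ≠ 0 := fun h => (not_isUnit_zero (M₀ := A)) (by rwa [h, Nat.cast_zero] at hn)
  have hnk : (n : ResidueField A) ≠ 0 := by rw [← map_natCast (residue A)]; exact (hn.map _).ne_zero
  have hnK : (n : K) ≠ 0 := by rw [← map_natCast (algebraMap A K)]; exact (hn.map _).ne_zero
  have ha0 : a ≠ 0 := ha.elim IsUnit.ne_zero Irreducible.ne_zero
  have haK : algebraMap A K a ≠ 0 := (map_ne_zero_iff _ (IsFractionRing.injective A K)).2 ha0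
  have hsep : IsSeparable K x := (separable_X_pow_sub_C (algebraMap A K a) hnK haK).of_dvd (minpoly.dvd K x (by
    rw [map_sub, map_pow, aeval_X, aeval_C, hx, sub_self]))
  haveI : Algebra.IsSeparable K K⟮x⟯ := (isSeparable_adjoin_simple_iff_isSeparable K F).2 hsep
  haveI : FiniteDimensional K K⟮x⟯ := adjoin.finiteDimensional hsep.isIntegral
  refine ⟨inferInstance, inferInstance, ?_⟩
  let g : A →+* K⟮x⟯ := (algebraMap K K⟮x⟯).comp (algebraMap A K)
  have hg : Function.Injective g := (algebraMap K K⟮x⟯).injective.comp (IsFractionRing.injective A K)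
  let f : A[X] := X ^ n - C a
  let S := AdjoinRoot f
  let y : K⟮x⟯ := AdjoinSimple.gen K x
  have hy : f.eval₂ g y = 0 := Subtype.ext (by
    simp only [f, eval₂_sub, eval₂_X_pow, eval₂_C]
    push_cast
    rw [sub_eq_zero]
    exact hx)
  let φ : S →+* K⟮x⟯ := AdjoinRoot.lift g y hy
  have hφ : φ.comp (algebraMap A S) = g := RingHom.ext fun c => AdjoinRoot.lift_of hy
  have hfr : ∀ z : K⟮x⟯, ∃ p q, φ q ≠ 0 ∧ z * φ q = φ p := by
    rintro ⟨z, hz⟩
    suffices ∃ p q, (φ q : F) ≠ 0 ∧ z * φ q = φ p by
      obtain ⟨p, q, hq, h⟩ := this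
      exact ⟨p, q, fun h0 => hq (by rw [h0]; rfl), Subtype.ext h⟩
    induction hz using adjoin_induction with
    | mem w hw =>
      rw [Set.mem_singleton_iff] at hw
      exact ⟨AdjoinRoot.root f, 1, by rw [map_one]; exact one_ne_zero, by
        rw [hw, map_one, show φ (AdjoinRoot.root f) = y from AdjoinRoot.lift_root hy]; simp [y]⟩
    | algebraMap c =>
      obtain ⟨p, q, hq, rfl⟩ := IsFractionRing.div_surjective A c
      have hq0 : algebraMap K F (algebraMap A K q) ≠ 0 := (map_ne_zero_iff _ (algebraMap K F).injective).2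
        ((map_ne_zero_iff _ (IsFractionRing.injective A K)).2 (nonZeroDivisors.ne_zero hq))
      refine ⟨algebraMap A S p, algebraMap A S q, ?_, ?_⟩
      · rw [← RingHom.comp_apply, hφ]; exact hq0
      · rw [← RingHom.comp_apply, ← RingHom.comp_apply φ, hφ, map_div₀]
        exact div_mul_cancel₀ _ hq0
    | add z w _ _ hz hw =>
      obtain ⟨p, q, hq, h⟩ := hz
      obtain ⟨p', q', hq', h'⟩ := hw
      refine ⟨p * q' + p' * q, q * q', by rw [map_mul]; push_cast; exact mul_ne_zero hq hq', ?_⟩
      rw [map_add, map_mul, map_mul, map_mul]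
      push_cast
      rw [← h, ← h']; ring
    | inv z _ hz =>
      obtain ⟨p, q, hq, h⟩ := hz
      rcases eq_or_ne z 0 with rfl | hz0
      · exact ⟨0, 1, by rw [map_one]; exact one_ne_zero, by simp⟩
      refine ⟨q, p, h ▸ mul_ne_zero hz0 hq, ?_⟩
      rw [← h, ← mul_assoc, inv_mul_cancel₀ hz0, one_mul]
    | mul z w _ _ hz hw =>
      obtain ⟨p, q, hq, h⟩ := hz
      obtain ⟨p', q', hq', h'⟩ := hw
      refine ⟨p * p', q * q', by rw [map_mul]; push_cast; exact mul_ne_zero hq hq', ?_⟩
      rw [map_mul, map_mul]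
      push_cast
      rw [← h, ← h']; ring
  haveI : Module.Finite A S := (monic_X_pow_sub_C a hn0).finite_adjoinRoot
  rcases ha with hau | hirr
  · haveI : Algebra.FormallyUnramified A S := formallyUnramified_root n hn a hau
    exact tame_of_unramifiedExt hg (unramifiedExt_of_generated g hg φ hφ hfr)
  · obtain ⟨hd, hv, hloc, -, hinj, -⟩ := root_dvr A a hirr n (Nat.pos_of_ne_zero hn0)
    haveI : IsDomain S := hd
    haveI : IsDiscreteValuationRing S := hv
    letI : Algebra S K⟮x⟯ := φ.toAlgebra
    have hφinj : Function.Injective φ := by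
      rw [RingHom.injective_iff_ker_eq_bot]
      refine Ideal.eq_bot_of_comap_eq_bot (R := A) ?_
      rw [RingHom.comap_ker, hφ]
      exact (RingHom.injective_iff_ker_eq_bot g).1 hg
    refine tame_of_unramified_over_root a hirr.maximalIdeal_eq n (Nat.pos_of_ne_zero hn0) hnk hφ ?_
    intro _
    exact unramifiedExt_of_generated (A := S) (S := S) φ hφinj φ (RingHom.ext fun _ => rfl) hfr

/-- A field generated by tame simple extensions is tame. -/
theorem tame_adjoin_finset (A : Type u) {K F : Type u} [CommRing A] [IsDomain A] [IsDiscreteValuationRing A] [Field K]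
    [Algebra A K] [IsFractionRing A K] [Field F] [Algebra K F] (s : Finset F)
    (hs : ∀ x ∈ s, FiniteDimensional K K⟮x⟯ ∧ Algebra.IsSeparable K K⟮x⟯ ∧
      EtRam.IsTamelyRamified A ((algebraMap K K⟮x⟯).comp (algebraMap A K)))
    (htop : adjoin K (s : Set F) = ⊤) : EtRam.IsTamelyRamified A ((algebraMap K F).comp (algebraMap A K)) := by
  classical
  let P : IntermediateField K F → Prop := fun E =>
    FiniteDimensional K E ∧ Algebra.IsSeparable K E ∧
      EtRam.IsTamelyRamified A ((algebraMap K E).comp (algebraMap A K))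
  have hsup : ∀ E E', P E → P E' → P (E ⊔ E') := by
    rintro E E' ⟨hE, hEs, hEt⟩ ⟨hF, hFs, hFt⟩
    letI : Algebra E ↥(E ⊔ E') := (inclusion (le_sup_left : E ≤ E ⊔ E')).toRingHom.toAlgebra
    letI : Algebra E' ↥(E ⊔ E') := (inclusion (le_sup_right : E' ≤ E ⊔ E')).toRingHom.toAlgebra
    haveI : IsScalarTower K E ↥(E ⊔ E') := IsScalarTower.of_algebraMap_eq fun k => rfl
    haveI : IsScalarTower K E' ↥(E ⊔ E') := IsScalarTower.of_algebraMap_eq fun k => rfl
    have hgen : Algebra.adjoin E (Set.range (algebraMap E' ↥(E ⊔ E'))) = ⊤ := by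
      refine Algebra.eq_top_iff.2 fun z => ?_
      have hz : (z : F) ∈ E.toSubalgebra ⊔ E'.toSubalgebra := by
        rw [← sup_toSubalgebra_of_left E E']; exact z.2
      have hle : E.toSubalgebra ⊔ E'.toSubalgebra ≤
          ((Algebra.adjoin E (Set.range (algebraMap E' ↥(E ⊔ E')))).restrictScalars K).map (E ⊔ E').val := by
        refine sup_le (fun x hx => ?_) (fun x hx => ?_)
        · exact ⟨algebraMap E ↥(E ⊔ E') ⟨x, hx⟩,
            Subalgebra.algebraMap_mem (Algebra.adjoin E (Set.range (algebraMap E' ↥(E ⊔ E')))) ⟨x, hx⟩, rfl⟩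
        · exact ⟨algebraMap E' ↥(E ⊔ E') ⟨x, hx⟩, Algebra.subset_adjoin ⟨⟨x, hx⟩, rfl⟩, rfl⟩
      obtain ⟨w, hw, hwz⟩ := hle hz
      rw [← Subtype.ext (hwz : (w : F) = (z : F))]
      exact hw
    haveI := finite_of_generated K E E' ↥(E ⊔ E') hgen
    exact ⟨FiniteDimensional.trans K E ↥(E ⊔ E'), separable_of_generated K E E' ↥(E ⊔ E') hgen,
      (generated_compositum A K E E' ↥(E ⊔ E') hgen).1 hEt hFt⟩
  have hbot : P ⊥ := by
    have h1 : K⟮(1 : F)⟯ = ⊥ := adjoin_simple_eq_bot_iff.2 (one_mem _)
    obtain ⟨h2, h3, h4⟩ := tame_adjoin_root (A := A) (K := K) (F := F) 1 (by simp) 1 (Or.inl isUnit_one) 1 (by simp)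
    rw [← h1]; exact ⟨h2, h3, h4⟩
  have hP : P (⊤ : IntermediateField K F) := by
    have h0 : s.sup (fun x => K⟮x⟯) = (⊤ : IntermediateField K F) := by
      refine top_unique ?_
      rw [← htop, adjoin_le_iff]
      intro x hx
      exact (Finset.le_sup (f := fun x => K⟮x⟯) (Finset.mem_coe.1 hx)) (mem_adjoin_simple_self K x)
    rw [← h0]
    exact Finset.sup_induction (p := fun E => P E) hbot (fun E hE E' hE' => hsup E E' hE hE') fun x hx => hs x hx
  obtain ⟨hf, hsp, ht⟩ := hP
  haveI := hf
  haveI := hsp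
  exact (of_algHom A K F (⊤ : IntermediateField K F) topEquiv.symm.toAlgHom).1 ht

end Groth.Agent.WeakUnram
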