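import Groth.Agent.WeakUnram.Generated

/-! The compositum of a tame extension with an arbitrary extension of discrete valuation rings. -/

set_option autoImplicit false
universe u

namespace Groth.Agent.WeakUnram
open IsLocalRing TensorProduct Polynomial

theorem bezout_decomp {G : Type u} [AddCommGroup G] (x y : G) (a b E E₁ : ℤ) (h : a * E + b * E₁ = 1) :
    E₁ • (b • x + a • y) + a • (E • x - E₁ • y) = x ∧ E • (b • x + a • y) + (-b) • (E • x - E₁ • y) = y := by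
  constructor
  · match_scalars <;> linarith
  · match_scalars <;> linarith

theorem bezout_units {G : Type u} [CommGroup G] (x y : G) (a b E E₁ : ℤ) (h : a * E + b * E₁ = 1) :
    (x ^ b * y ^ a) ^ E₁ * (x ^ E / y ^ E₁) ^ a = x ∧ (x ^ b * y ^ a) ^ E * (x ^ E / y ^ E₁) ^ (-b) = y :=
  bezout_decomp (G := Additive G) x y a b E E₁ h

/-- Uniformizer and residue field of a valuation ring generated by two extensions, one of them tame. -/
theorem tame_compositum {A A₁ B W : Type u} [CommRing A] [IsLocalRing A] [CommRing A₁] [IsLocalRing A₁]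
    [CommRing B] [IsLocalRing B] [CommRing W] [IsDomain W] [IsDiscreteValuationRing W]
    [Algebra A A₁] [IsLocalHom (algebraMap A A₁)] [Algebra A B] [IsLocalHom (algebraMap A B)]
    [Algebra A W] [Algebra A₁ W] [Algebra B W] [IsScalarTower A A₁ W] [IsScalarTower A B W]
    [IsLocalHom (algebraMap A₁ W)] [IsLocalHom (algebraMap B W)]
    (πA : A) (π₁ : A₁) (h₁ : maximalIdeal A₁ = Ideal.span {π₁}) (πB : B) (hB : maximalIdeal B = Ideal.span {πB})
    (e e₁ : ℕ) (he : 0 < e) (he₁ : 0 < e₁) (u : Bˣ) (u₁ : A₁ˣ)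
    (hu : algebraMap A B πA = u * πB ^ e) (hu₁ : algebraMap A A₁ πA = u₁ * π₁ ^ e₁)
    (hπ0 : algebraMap A W πA ≠ 0) (hgk : ((Nat.gcd e e₁ : ℕ) : ResidueField A) ≠ 0)
    [IsReduced (ResidueField A₁ ⊗[ResidueField A] ResidueField B)]
    (hmax : ∀ P : Ideal (ResidueField A₁ ⊗[ResidueField A] ResidueField B), P.IsPrime → P.IsMaximal)
    (hgen : ∀ w : W, ∃ r s : A₁ ⊗[A] B,
      Algebra.TensorProduct.lift (IsScalarTower.toAlgHom A A₁ W) (IsScalarTower.toAlgHom A B W)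
        (fun _ _ => Commute.all _ _) s ≠ 0 ∧
      w * Algebra.TensorProduct.lift (IsScalarTower.toAlgHom A A₁ W) (IsScalarTower.toAlgHom A B W)
        (fun _ _ => Commute.all _ _) s =
      Algebra.TensorProduct.lift (IsScalarTower.toAlgHom A A₁ W) (IsScalarTower.toAlgHom A B W)
        (fun _ _ => Commute.all _ _) r) :
    ∃ τ : W, maximalIdeal W = Ideal.span {τ} ∧
      Associated (algebraMap B W πB) (τ ^ (e₁ / Nat.gcd e e₁)) ∧
      Associated (algebraMap A₁ W π₁) (τ ^ (e / Nat.gcd e e₁)) ∧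
      ∃ (c : (ResidueField A₁ ⊗[ResidueField A] ResidueField B)ˣ)
        (χ : AdjoinRoot (X ^ Nat.gcd e e₁ - C (c : ResidueField A₁ ⊗[ResidueField A] ResidueField B)) →+*
          ResidueField W),
        (∀ a b, χ (AdjoinRoot.of _ (residue A₁ a ⊗ₜ[ResidueField A] residue B b)) =
          residue W (algebraMap A₁ W a * algebraMap B W b)) ∧
        ∀ z : ResidueField W, ∃ a b, χ b ≠ 0 ∧ z * χ b = χ a := by
  classical
  let kA := ResidueField A
  let k₁ := ResidueField A₁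
  let kB := ResidueField B
  let R := k₁ ⊗[kA] kB
  let Φ : A₁ ⊗[A] B →ₐ[A] W :=
    Algebra.TensorProduct.lift (IsScalarTower.toAlgHom A A₁ W) (IsScalarTower.toAlgHom A B W) (fun _ _ => Commute.all _ _)
  have hΦ : ∀ a b, Φ (a ⊗ₜ[A] b) = algebraMap A₁ W a * algebraMap B W b := fun a b => by simp [Φ]
  set g := Nat.gcd e e₁ with hg
  set E := e / g with hE
  set E₁ := e₁ / g with hE₁
  have hg0 : 0 < g := Nat.gcd_pos_of_pos_left _ he
  have heE : e = g * E := (Nat.mul_div_cancel' (Nat.gcd_dvd_left e e₁)).symm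
  have he₁E : e₁ = g * E₁ := (Nat.mul_div_cancel' (Nat.gcd_dvd_right e e₁)).symm
  have hE0 : 0 < E := Nat.pos_of_ne_zero fun h => he.ne' (by rw [heE, h, mul_zero])
  have hE₁0 : 0 < E₁ := Nat.pos_of_ne_zero fun h => he₁.ne' (by rw [he₁E, h, mul_zero])
  have hcop : Nat.Coprime E E₁ := Nat.coprime_div_gcd_div_gcd hg0
  obtain ⟨a, b, hab⟩ : IsCoprime (E : ℤ) (E₁ : ℤ) := Nat.isCoprime_iff_coprime.2 hcop
  -- valuations
  have hπA₁ : algebraMap A₁ W u₁ * algebraMap A₁ W π₁ ^ e₁ = algebraMap A W πA := by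
    rw [IsScalarTower.algebraMap_apply A A₁ W, hu₁, map_mul, map_pow]
  have hπAB : algebraMap B W u * algebraMap B W πB ^ e = algebraMap A W πA := by
    rw [IsScalarTower.algebraMap_apply A B W, hu, map_mul, map_pow]
  have hB0 : algebraMap B W πB ≠ 0 := fun h => hπ0 (by rw [← hπAB, h, zero_pow he.ne', mul_zero])
  have h₁0 : algebraMap A₁ W π₁ ≠ 0 := fun h => hπ0 (by rw [← hπA₁, h, zero_pow he₁.ne', mul_zero])
  obtain ⟨t, ht⟩ := IsDiscreteValuationRing.exists_irreducible W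
  obtain ⟨i, α, hα⟩ := IsDiscreteValuationRing.eq_unit_mul_pow_irreducible hB0 ht
  obtain ⟨j, β, hβ⟩ := IsDiscreteValuationRing.eq_unit_mul_pow_irreducible h₁0 ht
  let U : Wˣ := Units.map (algebraMap B W : B →* W) u
  let U₁ : Wˣ := Units.map (algebraMap A₁ W : A₁ →* W) u₁
  have hval : ((U * α ^ e : Wˣ) : W) * t ^ (i * e) = ((U₁ * β ^ e₁ : Wˣ) : W) * t ^ (j * e₁) := by
    have h0 := hπAB.trans hπA₁.symm
    rw [hα, hβ, mul_pow, mul_pow, ← pow_mul, ← pow_mul] at h0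
    simpa [U, U₁, mul_assoc] using h0
  have hij : i * e = j * e₁ := IsDiscreteValuationRing.unit_mul_pow_congr_pow ht ht _ _ _ _ hval
  have hunits : U * α ^ e = U₁ * β ^ e₁ := by
    rw [hij] at hval
    exact Units.ext (mul_right_cancel₀ (pow_ne_zero _ ht.ne_zero) hval)
  have hij' : i * E = j * E₁ := by
    refine Nat.eq_of_mul_eq_mul_left hg0 ?_
    rw [mul_left_comm, ← heE, mul_left_comm g, ← he₁E, hij]
  obtain ⟨n, hn⟩ : E₁ ∣ i := (Nat.Coprime.symm hcop).dvd_of_dvd_mul_right ⟨j, by rw [hij', mul_comm]⟩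
  have hjn : j = E * n := Nat.eq_of_mul_eq_mul_right hE₁0 (by rw [← hij', hn]; ring)
  have hi0 : i ≠ 0 := by
    rintro rfl
    rw [pow_zero, mul_one] at hα
    exact (mem_maximalIdeal πB).1 (hB ▸ Ideal.mem_span_singleton_self πB)
      (isUnit_of_map_unit (algebraMap B W) πB (hα ▸ α.isUnit))
  have hn0 : n ≠ 0 := fun h => hi0 (by rw [hn, h, mul_zero])
  let ψ : Wˣ := α ^ (E : ℤ) / β ^ (E₁ : ℤ)
  let γ : Wˣ := α ^ b * β ^ a
  obtain ⟨hαγ, hβγ⟩ := bezout_units α β a b (E : ℤ) (E₁ : ℤ) hab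
  have hψg : ψ ^ g = U₁ / U := by
    show (α ^ (E : ℤ) / β ^ (E₁ : ℤ)) ^ g = _
    rw [div_pow, zpow_natCast, zpow_natCast, ← pow_mul, ← pow_mul, mul_comm E, ← heE, mul_comm E₁, ← he₁E,
      div_eq_div_iff_mul_eq_mul, mul_comm, hunits, mul_comm]
  let τ : W := t ^ n * γ
  have hτB : algebraMap B W πB = τ ^ E₁ * ((ψ ^ a : Wˣ) : W) := by
    rw [hα, hn]
    conv_lhs => rw [← hαγ]
    rw [Units.val_mul, zpow_natCast, Units.val_pow_eq_pow_val, mul_comm E₁ n, pow_mul, mul_pow]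
    ring
  have hτ₁ : algebraMap A₁ W π₁ = τ ^ E * ((ψ ^ (-b) : Wˣ) : W) := by
    rw [hβ, hjn]
    conv_lhs => rw [← hβγ]
    rw [Units.val_mul, zpow_natCast, Units.val_pow_eq_pow_val, mul_comm E n, pow_mul, mul_pow]
    ring
  have hτ0 : τ ≠ 0 := mul_ne_zero (pow_ne_zero _ ht.ne_zero) γ.ne_zero
  have hτn : ¬ IsUnit τ := fun h => ht.not_isUnit ((isUnit_pow_iff hn0).1 (isUnit_of_mul_isUnit_left h))
  -- the generated ring
  let S : Subring W := Subring.closure (Set.range Φ ∪ {(ψ : W), ((ψ⁻¹ : Wˣ) : W), τ})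
  have hΦS : ∀ x, Φ x ∈ S := fun x => Subring.subset_closure (Or.inl ⟨x, rfl⟩)
  have hψS : (ψ : W) ∈ S := Subring.subset_closure (by simp)
  have hψS' : ((ψ⁻¹ : Wˣ) : W) ∈ S := Subring.subset_closure (by simp)
  have hτS : τ ∈ S := Subring.subset_closure (by simp)
  have hzS : ∀ m : ℤ, ((ψ ^ m : Wˣ) : W) ∈ S := fun m => by
    cases m with
    | ofNat k => rw [Int.ofNat_eq_natCast, zpow_natCast, Units.val_pow_eq_pow_val]; exact S.pow_mem hψS k
    | negSucc k => rw [zpow_negSucc, ← inv_pow, Units.val_pow_eq_pow_val]; exact S.pow_mem hψS' _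
  let τS : S := ⟨τ, hτS⟩
  let Q := S ⧸ Ideal.span {τS}
  let q : S →+* Q := Ideal.Quotient.mk _
  have hdiv : ∀ (m : ℕ), 0 < m → ∀ (z : W) (hz : z ∈ S) (x : S), (x : W) = τ ^ m * z → q x = 0 := by
    intro m hm z hz x hx
    refine Ideal.Quotient.eq_zero_iff_mem.2 (Ideal.mem_span_singleton.2 ⟨⟨τ ^ (m - 1) * z, S.mul_mem (S.pow_mem hτS _) hz⟩, ?_⟩)
    refine Subtype.ext ?_
    show (x : W) = τ * (τ ^ (m - 1) * z)
    rw [hx, ← mul_assoc, ← pow_succ', Nat.sub_add_cancel hm]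
  let iA : A₁ →+* S := (algebraMap A₁ W).codRestrict S fun x => by
    have := hΦS (x ⊗ₜ[A] 1); rwa [hΦ, map_one, mul_one] at this
  let iB : B →+* S := (algebraMap B W).codRestrict S fun x => by
    have := hΦS (1 ⊗ₜ[A] x); rwa [hΦ, map_one, one_mul] at this
  have hA0 : ∀ x ∈ maximalIdeal A₁, (q.comp iA) x = 0 := fun x hx => by
    rw [h₁] at hx
    obtain ⟨w, rfl⟩ := Ideal.mem_span_singleton.1 hx
    rw [map_mul, RingHom.comp_apply, hdiv E hE0 _ (hzS (-b)) (iA π₁) hτ₁, zero_mul]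
  have hBz : ∀ x ∈ maximalIdeal B, (q.comp iB) x = 0 := fun x hx => by
    rw [hB] at hx
    obtain ⟨w, rfl⟩ := Ideal.mem_span_singleton.1 hx
    rw [map_mul, RingHom.comp_apply, hdiv E₁ hE₁0 _ (hzS a) (iB πB) hτB, zero_mul]
  let jA : k₁ →+* Q := Ideal.Quotient.lift _ (q.comp iA) hA0
  let jB : kB →+* Q := Ideal.Quotient.lift _ (q.comp iB) hBz
  letI : Algebra kA Q := (jA.comp (algebraMap kA k₁)).toAlgebra
  let jA' : k₁ →ₐ[kA] Q := { jA with commutes' := fun _ => rfl }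
  let jB' : kB →ₐ[kA] Q :=
    { jB with
      commutes' := fun x => by
        obtain ⟨x, rfl⟩ := residue_surjective x
        show q (iB (algebraMap A B x)) = q (iA (algebraMap A A₁ x))
        refine congrArg q (Subtype.ext ?_)
        show algebraMap B W (algebraMap A B x) = algebraMap A₁ W (algebraMap A A₁ x)
        rw [← IsScalarTower.algebraMap_apply, ← IsScalarTower.algebraMap_apply] }
  let σ₀ : R →+* Q := (Algebra.TensorProduct.lift jA' jB' (fun _ _ => Commute.all _ _)).toRingHom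
  have hσ₀ : ∀ x y, σ₀ (residue A₁ x ⊗ₜ[kA] residue B y) = q (iA x * iB y) := fun x y => by
    show Algebra.TensorProduct.lift jA' jB' _ _ = _
    rw [Algebra.TensorProduct.lift_tmul, map_mul]
    rfl
  let c : Rˣ := ⟨residue A₁ u₁ ⊗ₜ residue B ((u⁻¹ : Bˣ) : B), residue A₁ ((u₁⁻¹ : A₁ˣ) : A₁) ⊗ₜ residue B u,
    by rw [Algebra.TensorProduct.tmul_mul_tmul, ← map_mul, ← map_mul, Units.mul_inv, Units.inv_mul, map_one, map_one]; rfl,
    by rw [Algebra.TensorProduct.tmul_mul_tmul, ← map_mul, ← map_mul, Units.mul_inv, Units.inv_mul, map_one, map_one]; rfl⟩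
  let f : R[X] := X ^ g - C (c : R)
  have hroot : f.eval₂ σ₀ (q ⟨ψ, hψS⟩) = 0 := by
    show (X ^ g - C (c : R)).eval₂ σ₀ _ = 0
    rw [eval₂_sub, eval₂_X_pow, eval₂_C, sub_eq_zero, ← map_pow]
    show _ = σ₀ (residue A₁ u₁ ⊗ₜ residue B ((u⁻¹ : Bˣ) : B))
    rw [hσ₀]
    refine congrArg q (Subtype.ext ?_)
    show (ψ : W) ^ g = algebraMap A₁ W u₁ * algebraMap B W ((u⁻¹ : Bˣ) : B)
    rw [← Units.val_pow_eq_pow_val, hψg, div_eq_mul_inv, Units.val_mul]
    rfl
  let σ : AdjoinRoot f →+* Q := AdjoinRoot.lift σ₀ _ hroot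
  have hσof : ∀ r, σ (AdjoinRoot.of f r) = σ₀ r := fun r => AdjoinRoot.lift_of hroot
  have hσΦ : ∀ x, q ⟨Φ x, hΦS x⟩ ∈ σ.range := by
    intro x
    induction x with
    | zero => exact (show q ⟨Φ 0, hΦS 0⟩ = 0 by
        rw [show (⟨Φ 0, hΦS 0⟩ : S) = 0 from Subtype.ext (map_zero Φ), map_zero]) ▸ σ.range.zero_mem
    | add x y hx hy =>
      rw [show (⟨Φ (x + y), hΦS _⟩ : S) = ⟨Φ x, hΦS x⟩ + ⟨Φ y, hΦS y⟩ from Subtype.ext (map_add Φ x y), map_add]
      exact σ.range.add_mem hx hy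
    | tmul x y =>
      refine ⟨AdjoinRoot.of f (residue A₁ x ⊗ₜ[kA] residue B y), ?_⟩
      rw [hσof, hσ₀]
      exact congrArg q (Subtype.ext (hΦ x y).symm)
  have hσs : Function.Surjective σ := by
    intro z
    obtain ⟨⟨z, hz⟩, rfl⟩ := Ideal.Quotient.mk_surjective z
    suffices q ⟨z, hz⟩ ∈ σ.range from this
    induction hz using Subring.closure_induction with
    | mem z hz =>
      rcases hz with ⟨x, rfl⟩ | rfl | rfl | rfl
      · exact hσΦ x
      · exact ⟨AdjoinRoot.root f, AdjoinRoot.lift_root hroot⟩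
      · refine ⟨AdjoinRoot.root f ^ (g - 1) * AdjoinRoot.of f ((c⁻¹ : Rˣ) : R), ?_⟩
        rw [map_mul, map_pow, hσof, show σ (AdjoinRoot.root f) = _ from AdjoinRoot.lift_root hroot]
        have h1 : (q ⟨ψ, hψS⟩) ^ g = σ₀ (c : R) := by
          simpa [f, eval₂_sub, sub_eq_zero] using hroot
        have h2 : q ⟨ψ, hψS⟩ * q ⟨_, hψS'⟩ = 1 := by
          rw [← map_mul, ← map_one q]; exact congrArg q (Subtype.ext ψ.mul_inv)
        have h3 : (q ⟨ψ, hψS⟩) ^ g * σ₀ ((c⁻¹ : Rˣ) : R) = 1 := by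
          rw [h1, ← map_mul, Units.mul_inv, map_one]
        calc (q ⟨ψ, hψS⟩) ^ (g - 1) * σ₀ ((c⁻¹ : Rˣ) : R)
            = q ⟨ψ, hψS⟩ * q ⟨_, hψS'⟩ * ((q ⟨ψ, hψS⟩) ^ (g - 1) * σ₀ ((c⁻¹ : Rˣ) : R)) := by rw [h2, one_mul]
          _ = q ⟨_, hψS'⟩ * ((q ⟨ψ, hψS⟩) ^ (g - 1 + 1) * σ₀ ((c⁻¹ : Rˣ) : R)) := by rw [pow_succ]; ring
          _ = _ := by rw [Nat.sub_add_cancel hg0, h3, mul_one]
      · exact ⟨0, by rw [map_zero]; exact (Ideal.Quotient.eq_zero_iff_mem.2 (Ideal.mem_span_singleton_self τS)).symm⟩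
    | zero => exact (show q ⟨0, _⟩ = 0 from map_zero q) ▸ σ.range.zero_mem
    | one => exact (show q ⟨1, _⟩ = 1 from map_one q) ▸ σ.range.one_mem
    | add x y hx hy h h' => exact (show q ⟨x + y, _⟩ = q ⟨x, hx⟩ + q ⟨y, hy⟩ from map_add q ⟨x, hx⟩ ⟨y, hy⟩) ▸ σ.range.add_mem h h'
    | mul x y hx hy h h' => exact (show q ⟨x * y, _⟩ = q ⟨x, hx⟩ * q ⟨y, hy⟩ from map_mul q ⟨x, hx⟩ ⟨y, hy⟩) ▸ σ.range.mul_mem h h'
    | neg x hx h => exact (show q ⟨-x, _⟩ = -q ⟨x, hx⟩ from map_neg q ⟨x, hx⟩) ▸ σ.range.neg_mem h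
  have hfmon : f.Monic := monic_X_pow_sub_C _ hg0.ne'
  have hgR : IsUnit ((g : ℕ) : R) := by
    rw [← map_natCast (algebraMap kA R)]; exact (isUnit_iff_ne_zero.2 hgk).map _
  haveI : IsReduced (AdjoinRoot f) := isReduced_adjoinRoot hfmon (separable_X_pow_sub_C_unit c hgR)
  haveI : Module.Finite R (AdjoinRoot f) := hfmon.finite_adjoinRoot
  haveI : Algebra.IsIntegral R (AdjoinRoot f) := Algebra.IsIntegral.of_finite R _
  have hmaxT : ∀ P : Ideal (AdjoinRoot f), P.IsPrime → P.IsMaximal := fun P hP =>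
    Ideal.isMaximal_of_isIntegral_of_isMaximal_comap (R := R) P (hmax _ (hP.comap _))
  obtain ⟨hτW, χ, hχ, hfr⟩ := generated_dvr S τS hτ0 hτn (fun w => by
    obtain ⟨r, s, hs, h⟩ := hgen w
    exact ⟨⟨Φ r, hΦS r⟩, ⟨Φ s, hΦS s⟩, hs, h⟩) hmaxT σ hσs
  refine ⟨τ, hτW, ⟨(ψ ^ a)⁻¹, ?_⟩, ⟨(ψ ^ (-b))⁻¹, ?_⟩, c, χ, fun x y => ?_, hfr⟩
  · rw [hτB, mul_assoc, Units.mul_inv, mul_one]
  · rw [hτ₁, mul_assoc, Units.mul_inv, mul_one]
  · exact hχ _ (iA x * iB y) ((hσof _).trans (hσ₀ x y))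

/-- Geometric reducedness passes to a field of fractions of a zero-dimensional reduced algebra. -/
theorem geometricallyReduced_of_fractions {k T F : Type u} [Field k] [CommRing T] [IsReduced T] [Algebra k T] [Field F]
    [Algebra k F] (χ : T →ₐ[k] F) (hmax : ∀ P : Ideal T, P.IsPrime → P.IsMaximal)
    (hfr : ∀ z : F, ∃ a b, χ b ≠ 0 ∧ z * χ b = χ a) [IsReduced (AlgebraicClosure k ⊗[k] T)] :
    Algebra.IsGeometricallyReduced k F := by
  rw [Algebra.isGeometricallyReduced_field_iff]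
  let Ω := AlgebraicClosure k
  let Q : Ideal T := RingHom.ker χ
  haveI : Q.IsPrime := RingHom.ker_isPrime _
  letI : Algebra T F := χ.toRingHom.toAlgebra
  haveI : IsScalarTower k T F := IsScalarTower.of_algebraMap_eq fun c => (χ.commutes c).symm
  haveI : IsLocalization Q.primeCompl F := by
    constructor
    constructor
    · exact fun y => isUnit_iff_ne_zero.2 y.2
    · intro z
      obtain ⟨a, b, hb, h⟩ := hfr z
      exact ⟨⟨a, ⟨b, hb⟩⟩, h⟩
    · intro x y hxy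
      obtain ⟨s, hs, hz⟩ := exists_notMem_mul_eq_zero
        (fun P hP hPQ => (hmax P hP).eq_of_le (Ideal.IsPrime.ne_top inferInstance) hPQ)
        (show x - y ∈ Q by rw [RingHom.mem_ker, map_sub, sub_eq_zero]; exact hxy)
      exact ⟨⟨s, hs⟩, sub_eq_zero.1 (by rw [← mul_sub]; exact hz)⟩
  let T' := Ω ⊗[k] T
  letI : Algebra T T' := Algebra.TensorProduct.rightAlgebra
  let TW := T' ⊗[T] F
  haveI : IsLocalization (Algebra.algebraMapSubmonoid T' Q.primeCompl) TW := inferInstance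
  haveI : IsReduced TW := isReduced_localizationPreserves (Algebra.algebraMapSubmonoid T' Q.primeCompl) TW inferInstance
  let e₁ := (Algebra.TensorProduct.comm k Ω F).toRingEquiv
  let e₂ := (Algebra.TensorProduct.cancelBaseChange k T F F Ω).toRingEquiv.symm
  let e₃ := (Algebra.TensorProduct.congr (AlgEquiv.refl : F ≃ₐ[T] F)
    ({ Algebra.TensorProduct.comm k T Ω with commutes' := fun x => rfl } : T ⊗[k] Ω ≃ₐ[T] T')).toRingEquiv
  let e₄ := (Algebra.TensorProduct.comm T F T').toRingEquiv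
  let e := ((e₁.trans e₂).trans e₃).trans e₄
  exact isReduced_of_injective e e.injective

/-- Base change commutes with adjoining a root of a separable polynomial. -/
theorem isReduced_tensor_adjoinRoot {k R : Type u} [Field k] [CommRing R] [Algebra k R] (Ω : Type u) [CommRing Ω]
    [Algebra k Ω] [IsReduced (Ω ⊗[k] R)] {f : R[X]} (hf : f.Monic) (hs : f.Separable) :
    IsReduced (Ω ⊗[k] AdjoinRoot f) := by
  let R' := Ω ⊗[k] R
  let ι : R →+* R' := (Algebra.TensorProduct.includeRight : R →ₐ[k] R').toRingHom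
  let f' := f.map ι
  haveI : IsReduced (AdjoinRoot f') := isReduced_adjoinRoot (hf.map ι) hs.map
  let ofA : R →ₐ[k] AdjoinRoot f :=
    { AdjoinRoot.of f with commutes' := fun r => (IsScalarTower.algebraMap_apply k R (AdjoinRoot f) r).symm }
  let m : R' →ₐ[k] Ω ⊗[k] AdjoinRoot f := Algebra.TensorProduct.map (AlgHom.id k Ω) ofA
  let iT : AdjoinRoot f →+* Ω ⊗[k] AdjoinRoot f :=
    (Algebra.TensorProduct.includeRight : AdjoinRoot f →ₐ[k] Ω ⊗[k] AdjoinRoot f).toRingHom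
  have hmι : m.toRingHom.comp ι = iT.comp (AdjoinRoot.of f) := RingHom.ext fun r => by
    show m ((1 : Ω) ⊗ₜ r) = (1 : Ω) ⊗ₜ AdjoinRoot.of f r
    rw [Algebra.TensorProduct.map_tmul]; rfl
  let η : AdjoinRoot f' →+* Ω ⊗[k] AdjoinRoot f := AdjoinRoot.lift m.toRingHom (iT (AdjoinRoot.root f)) (by
    rw [eval₂_map, hmι, ← Polynomial.hom_eval₂, AdjoinRoot.eval₂_root, map_zero])
  let θT : AdjoinRoot f →+* AdjoinRoot f' := AdjoinRoot.lift ((AdjoinRoot.of f').comp ι) (AdjoinRoot.root f') (by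
    rw [← eval₂_map, AdjoinRoot.eval₂_root])
  let θT' : AdjoinRoot f →ₐ[k] AdjoinRoot f' :=
    { θT with
      commutes' := fun r => by
        show θT (algebraMap k _ r) = _
        rw [IsScalarTower.algebraMap_apply k R (AdjoinRoot f), AdjoinRoot.algebraMap_eq, AdjoinRoot.lift_of]
        show AdjoinRoot.of f' (ι (algebraMap k R r)) = algebraMap k (AdjoinRoot f') r
        rw [IsScalarTower.algebraMap_apply k R' (AdjoinRoot f'), AdjoinRoot.algebraMap_eq]
        exact congrArg _ (AlgHom.commutes _ r) }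
  let θΩ : Ω →ₐ[k] AdjoinRoot f' :=
    { (AdjoinRoot.of f').comp (Algebra.TensorProduct.includeLeftRingHom : Ω →+* R') with
      commutes' := fun r => by
        rw [IsScalarTower.algebraMap_apply k R' (AdjoinRoot f')]
        rfl }
  let θ : Ω ⊗[k] AdjoinRoot f →ₐ[k] AdjoinRoot f' :=
    Algebra.TensorProduct.lift θΩ θT' (fun _ _ => Commute.all _ _)
  have hcomp : η.comp θT = iT := AdjoinRoot.ringHom_ext (RingHom.ext fun r => by
      show η (θT (AdjoinRoot.of f r)) = _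
      rw [AdjoinRoot.lift_of]
      show η (AdjoinRoot.of f' (ι r)) = _
      rw [AdjoinRoot.lift_of]
      exact RingHom.congr_fun hmι r) (by
      show η (θT (AdjoinRoot.root f)) = _
      rw [AdjoinRoot.lift_root, AdjoinRoot.lift_root])
  have hleft : ∀ z, η (θ z) = z := by
    intro z
    induction z with
    | zero => simp
    | add x y hx hy => rw [map_add, map_add, hx, hy]
    | tmul w x =>
      show η (Algebra.TensorProduct.lift θΩ θT' _ _) = _
      rw [Algebra.TensorProduct.lift_tmul, map_mul]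
      show η (AdjoinRoot.of f' (w ⊗ₜ 1)) * (η.comp θT) x = _
      rw [hcomp, AdjoinRoot.lift_of]
      show m (w ⊗ₜ 1) * (1 : Ω) ⊗ₜ x = _
      rw [Algebra.TensorProduct.map_tmul, map_one, Algebra.TensorProduct.tmul_mul_tmul]
      simp
  exact isReduced_of_injective θ (Function.LeftInverse.injective hleft)

end Groth.Agent.WeakUnram
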