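import Groth.Agent.WeakUnram.Main
import Groth.Agent.WeakUnram.TameCompositum
import Groth.Agent.DomDVR.FiniteExt

/-! Abhyankar's lemma and base change of tame extensions. -/

set_option autoImplicit false
universe u

namespace Groth.Agent.WeakUnram
open IsLocalRing TensorProduct Polynomial

theorem ramificationIdx'_eq_of_map {A V : Type u} [CommRing A] [IsLocalRing A] [CommRing V] [IsDomain V]
    [IsDiscreteValuationRing V] [Algebra A V] (n : ℕ)
    (h : (maximalIdeal A).map (algebraMap A V) = maximalIdeal V ^ n) :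
    Ideal.ramificationIdx' (maximalIdeal A) (maximalIdeal V) = n := by
  refine Ideal.ramificationIdx'_spec h.le ?_
  rw [h]
  intro hle
  obtain ⟨ϖ, hϖ⟩ := IsDiscreteValuationRing.exists_irreducible V
  rw [hϖ.maximalIdeal_eq, Ideal.span_singleton_pow, Ideal.span_singleton_pow,
    Ideal.span_singleton_le_span_singleton, pow_dvd_pow_iff hϖ.ne_zero hϖ.not_isUnit] at hle
  omega

/-- Uniformizers of an injective local map of DVRs. -/
theorem exists_eq_unit_mul_pow {A V : Type u} [CommRing A] [IsDomain A] [IsDiscreteValuationRing A] [CommRing V]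
    [IsDomain V] [IsDiscreteValuationRing V] [Algebra A V] [IsLocalHom (algebraMap A V)]
    (hinj : Function.Injective (algebraMap A V)) {π : A} (hπ : Irreducible π) {ϖ : V} (hϖ : Irreducible ϖ) :
    ∃ (u : Vˣ), algebraMap A V π = u * ϖ ^ Ideal.ramificationIdx' (maximalIdeal A) (maximalIdeal V) ∧
      0 < Ideal.ramificationIdx' (maximalIdeal A) (maximalIdeal V) := by
  obtain ⟨n, u, hu⟩ := IsDiscreteValuationRing.eq_unit_mul_pow_irreducible
    ((map_ne_zero_iff _ hinj).2 hπ.ne_zero) hϖ
  have hn : (maximalIdeal A).map (algebraMap A V) = maximalIdeal V ^ n := by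
    rw [hπ.maximalIdeal_eq, Ideal.map_span, Set.image_singleton, hϖ.maximalIdeal_eq, Ideal.span_singleton_pow, hu]
    exact Ideal.span_singleton_mul_left_unit u.isUnit _
  rw [ramificationIdx'_eq_of_map n hn]
  refine ⟨u, hu, Nat.pos_of_ne_zero ?_⟩
  rintro rfl
  exact hπ.not_isUnit (isUnit_of_map_unit (algebraMap A V) π (by rw [hu, pow_zero, mul_one]; exact u.isUnit))

/-- A compositum of DVR extensions with the gcd of ramification indices invertible in the residue field. -/
theorem tame_dvr {A A₁ B W : Type u} [CommRing A] [IsDomain A] [IsDiscreteValuationRing A]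
    [CommRing A₁] [IsDomain A₁] [IsDiscreteValuationRing A₁]
    [CommRing B] [IsDomain B] [IsDiscreteValuationRing B] [CommRing W] [IsDomain W] [IsDiscreteValuationRing W]
    [Algebra A A₁] [IsLocalHom (algebraMap A A₁)] [Algebra A B] [IsLocalHom (algebraMap A B)]
    [Algebra A W] [Algebra A₁ W] [Algebra B W] [IsScalarTower A A₁ W] [IsScalarTower A B W]
    [IsLocalHom (algebraMap A₁ W)] [IsLocalHom (algebraMap B W)]
    (hinjW : Function.Injective (algebraMap A W)) (e e₁ : ℕ)
    (he : Ideal.ramificationIdx' (maximalIdeal A) (maximalIdeal B) = e)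
    (he₁ : Ideal.ramificationIdx' (maximalIdeal A) (maximalIdeal A₁) = e₁)
    (hgk : ((Nat.gcd e e₁ : ℕ) : ResidueField A) ≠ 0)
    [IsReduced (ResidueField A₁ ⊗[ResidueField A] ResidueField B)]
    (hmax : ∀ P : Ideal (ResidueField A₁ ⊗[ResidueField A] ResidueField B), P.IsPrime → P.IsMaximal)
    (hgen : ∀ w : W, ∃ r s : A₁ ⊗[A] B,
      Algebra.TensorProduct.lift (IsScalarTower.toAlgHom A A₁ W) (IsScalarTower.toAlgHom A B W)
        (fun _ _ => Commute.all _ _) s ≠ 0 ∧
      w * Algebra.TensorProduct.lift (IsScalarTower.toAlgHom A A₁ W) (IsScalarTower.toAlgHom A B W)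
        (fun _ _ => Commute.all _ _) s =
      Algebra.TensorProduct.lift (IsScalarTower.toAlgHom A A₁ W) (IsScalarTower.toAlgHom A B W)
        (fun _ _ => Commute.all _ _) r) :
    Ideal.ramificationIdx' (maximalIdeal B) (maximalIdeal W) = e₁ / Nat.gcd e e₁ ∧
      (maximalIdeal A₁).map (algebraMap A₁ W) = maximalIdeal W ^ (e / Nat.gcd e e₁) ∧
      ∃ (c : (ResidueField A₁ ⊗[ResidueField A] ResidueField B)ˣ)
        (χ : AdjoinRoot (X ^ Nat.gcd e e₁ - C (c : ResidueField A₁ ⊗[ResidueField A] ResidueField B)) →+*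
          ResidueField W),
        (∀ a b, χ (AdjoinRoot.of _ (residue A₁ a ⊗ₜ[ResidueField A] residue B b)) =
          residue W (algebraMap A₁ W a * algebraMap B W b)) ∧
        ∀ z : ResidueField W, ∃ a b, χ b ≠ 0 ∧ z * χ b = χ a := by
  obtain ⟨π, hπ⟩ := IsDiscreteValuationRing.exists_irreducible A
  obtain ⟨π₁, hπ₁⟩ := IsDiscreteValuationRing.exists_irreducible A₁
  obtain ⟨πB, hπB⟩ := IsDiscreteValuationRing.exists_irreducible B
  have hi₁ : Function.Injective (algebraMap A A₁) := by
    rw [IsScalarTower.algebraMap_eq A A₁ W, RingHom.coe_comp] at hinjW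
    exact hinjW.of_comp
  have hiB : Function.Injective (algebraMap A B) := by
    rw [IsScalarTower.algebraMap_eq A B W, RingHom.coe_comp] at hinjW
    exact hinjW.of_comp
  obtain ⟨u, hu, he0⟩ := exists_eq_unit_mul_pow hiB hπ hπB
  obtain ⟨u₁, hu₁, he₁0⟩ := exists_eq_unit_mul_pow hi₁ hπ hπ₁
  rw [he] at hu he0
  rw [he₁] at hu₁ he₁0
  obtain ⟨τ, hτ, hB, h₁, hχ⟩ := tame_compositum π π₁ hπ₁.maximalIdeal_eq πB hπB.maximalIdeal_eq e e₁ he0 he₁0 u u₁
    hu hu₁ ((map_ne_zero_iff _ hinjW).2 hπ.ne_zero) hgk hmax hgen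
  refine ⟨ramificationIdx'_eq_of_map _ ?_, ?_, hχ⟩
  · rw [hπB.maximalIdeal_eq, Ideal.map_span, Set.image_singleton, hτ, Ideal.span_singleton_pow]
    exact Ideal.span_singleton_eq_span_singleton.2 hB
  · rw [hπ₁.maximalIdeal_eq, Ideal.map_span, Set.image_singleton, hτ, Ideal.span_singleton_pow]
    exact Ideal.span_singleton_eq_span_singleton.2 h₁

/-- The residue field of the compositum is separable over that of the arbitrary factor. -/
theorem separable_of_fractions {kA k₁ kB F : Type u} [Field kA] [Field k₁] [Field kB] [Field F] [Algebra kA k₁]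
    [Algebra kA kB] [Algebra kA F] [Algebra k₁ F] [Algebra kB F] [IsScalarTower kA k₁ F] [IsScalarTower kA kB F]
    [Algebra.IsSeparable kA k₁] {g : ℕ} (hg : (g : kA) ≠ 0) (c : (k₁ ⊗[kA] kB)ˣ)
    (χ : AdjoinRoot (X ^ g - C (c : k₁ ⊗[kA] kB)) →+* F)
    (hχ : ∀ a b, χ (AdjoinRoot.of _ (a ⊗ₜ[kA] b)) = algebraMap k₁ F a * algebraMap kB F b)
    (hfr : ∀ z : F, ∃ a b, χ b ≠ 0 ∧ z * χ b = χ a) : Algebra.IsSeparable kB F := by
  let S := separableClosure kB F
  have hof : ∀ r, χ (AdjoinRoot.of _ r) ∈ S := by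
    intro r
    induction r with
    | zero => simp
    | add x y hx hy => rw [map_add, map_add]; exact S.add_mem hx hy
    | tmul a b =>
      rw [hχ]
      refine S.mul_mem (mem_separableClosure_iff.2 ?_) (S.algebraMap_mem b)
      exact (IsSeparable.map (f := IsScalarTower.toAlgHom kA k₁ F) (algebraMap k₁ F).injective
        (Algebra.IsSeparable.isSeparable kA a)).tower_top kB
  let y := χ (AdjoinRoot.root _)
  have hy : y ^ g = χ (AdjoinRoot.of _ (c : k₁ ⊗[kA] kB)) := by
    have h := congrArg χ (AdjoinRoot.eval₂_root (X ^ g - C (c : k₁ ⊗[kA] kB)))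
    rw [eval₂_sub, eval₂_X_pow, eval₂_C, map_sub, map_zero, sub_eq_zero, map_pow] at h
    exact h
  have hyS : y ∈ S := by
    have hgS : (g : S) ≠ 0 := fun h => hg ((algebraMap kA F).injective (by
      rw [map_natCast, map_zero, ← map_natCast S.val, h, map_zero]))
    have hc0 : (⟨_, hof (c : k₁ ⊗[kA] kB)⟩ : S) ≠ 0 := fun h =>
      ((c.isUnit.map (AdjoinRoot.of _)).map χ).ne_zero (congrArg Subtype.val h)
    have hsep : IsSeparable S y := (separable_X_pow_sub_C _ hgS hc0).of_dvd (minpoly.dvd S y (by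
      rw [map_sub, map_pow, aeval_X, aeval_C, hy]
      exact sub_eq_zero.2 rfl))
    exact mem_separableClosure_iff.2 (IsSeparable.of_algebra_isSeparable_of_isSeparable kB hsep)
  have hall : ∀ t, χ t ∈ S := by
    intro t
    induction t using AdjoinRoot.induction_on with
    | _ p =>
      induction p using Polynomial.induction_on' with
      | add p q hp hq => rw [map_add, map_add]; exact S.add_mem hp hq
      | monomial n a =>
        rw [← C_mul_X_pow_eq_monomial, map_mul, map_pow, AdjoinRoot.mk_C, AdjoinRoot.mk_X, map_mul, map_pow]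
        exact S.mul_mem (hof a) (pow_mem hyS n)
  refine ⟨fun z => mem_separableClosure_iff.1 ?_⟩
  obtain ⟨a, b, hb, h⟩ := hfr z
  rw [show z = χ a / χ b from eq_div_of_mul_eq hb h]
  exact S.div_mem (hall a) (hall b)

/-- The finite separable residue extension stays reduced after any base change. -/
theorem isReduced_tensor_of_separable {k k₁ k₂ : Type u} [Field k] [Field k₁] [Field k₂] [Algebra k k₁] [Algebra k k₂]
    [Module.Finite k k₁] [Algebra.IsSeparable k k₁] : IsReduced (k₁ ⊗[k] k₂) := by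
  haveI := Algebra.FormallyUnramified.of_isSeparable k k₁
  haveI : IsReduced (k₂ ⊗[k] k₁) := Algebra.FormallyUnramified.isReduced_of_field k₂ (k₂ ⊗[k] k₁)
  exact isReduced_of_injective (Algebra.TensorProduct.comm k k₁ k₂) (Algebra.TensorProduct.comm k k₁ k₂).injective

theorem isMaximal_tensor_of_algebraic {k k₁ k₂ : Type u} [Field k] [Field k₁] [Field k₂] [Algebra k k₁] [Algebra k k₂]
    [Algebra.IsAlgebraic k k₁] (P : Ideal (k₁ ⊗[k] k₂)) (hP : P.IsPrime) : P.IsMaximal := by
  letI : Algebra k₂ (k₁ ⊗[k] k₂) := Algebra.TensorProduct.rightAlgebra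
  haveI : Algebra.IsIntegral k₂ (k₁ ⊗[k] k₂) := Algebra.IsPushout.isIntegral k k₂ k₁ _
  refine Ideal.isMaximal_of_isIntegral_of_isMaximal_comap (R := k₂) P ?_
  rw [(Ideal.eq_bot_or_top (P.comap (algebraMap k₂ (k₁ ⊗[k] k₂)))).resolve_right
    (Ideal.IsPrime.ne_top (hP.comap _))]
  exact Ideal.bot_isMaximal

theorem natCast_ne_zero_of_not_dvd {k : Type u} [Field k] {n : ℕ} (hn : 0 < n)
    (h : ∀ p : ℕ, p.Prime → CharP k p → ¬ p ∣ n) {g : ℕ} (hg : g ∣ n) : (g : k) ≠ 0 := by
  intro h0
  obtain ⟨p, hp⟩ := CharP.exists k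
  rw [CharP.cast_eq_zero_iff k p] at h0
  rcases CharP.char_is_prime_or_zero k p with hprime | rfl
  · exact h p hprime hp (h0.trans hg)
  · exact hn.ne' (Nat.eq_zero_of_zero_dvd (h0.trans hg))

/-- The residue field of a dominating valuation ring in a finite separable extension is finite. -/
theorem residue_finite {A K K₁ : Type u} [CommRing A] [IsDomain A] [IsDiscreteValuationRing A] [Field K]
    [Algebra A K] [IsFractionRing A K] [Field K₁] [Algebra K K₁] [Algebra A K₁] [IsScalarTower A K K₁]
    [FiniteDimensional K K₁] [Algebra.IsSeparable K K₁] (V : ValuationSubring K₁)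
    (h : EtRam.Dominates A (algebraMap A K₁) V) [Algebra A V] (hAV : ∀ a, (algebraMap A V a : K₁) = algebraMap A K₁ a)
    [IsLocalHom (algebraMap A V)] : Module.Finite (ResidueField A) (ResidueField V) := by
  classical
  let kV := ResidueField V
  let C := integralClosure A K₁
  haveI : Module.Finite A C := IsIntegralClosure.finite A K K₁ C
  haveI : IsScalarTower A V K₁ := IsScalarTower.of_algebraMap_eq fun a => (hAV a).symm
  have hCV : ∀ c : C, (c : K₁) ∈ V := fun c => by
    obtain ⟨w, hw⟩ := IsIntegrallyClosed.isIntegral_iff.1 (IsIntegral.tower_top (A := V) (c.2 : IsIntegral A (c : K₁)))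
    rw [← hw]; exact w.2
  let ι : C →ₐ[A] V :=
    { toFun := fun c => ⟨c, hCV c⟩
      map_one' := rfl
      map_mul' := fun _ _ => rfl
      map_zero' := rfl
      map_add' := fun _ _ => rfl
      commutes' := fun a => Subtype.ext (hAV a).symm }
  let ρ : C →ₗ[A] kV := ((IsScalarTower.toAlgHom A V kV).comp ι).toLinearMap
  obtain ⟨gs, hgs⟩ := Module.Finite.fg_top (R := A) (M := C)
  have hint : ∀ c : C, IsIntegral (ResidueField A) (ρ c) := fun c =>
    (((Algebra.IsIntegral.isIntegral (R := A) c).map ((IsScalarTower.toAlgHom A V kV).comp ι))).tower_top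
  let Img := Algebra.adjoin (ResidueField A) (ρ '' (gs : Set C))
  haveI hfin : Module.Finite (ResidueField A) Img := Module.Finite.iff_fg.2 (fg_adjoin_of_finite (gs.finite_toSet.image ρ)
    (by rintro _ ⟨c, _, rfl⟩; exact hint c))
  have hImg : ∀ c : C, ρ c ∈ Img := by
    intro c
    have hc : c ∈ Submodule.span A (gs : Set C) := hgs ▸ Submodule.mem_top
    induction hc using Submodule.span_induction with
    | mem x hx => exact Algebra.subset_adjoin ⟨x, hx, rfl⟩
    | zero => rw [map_zero]; exact Img.zero_mem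
    | add x y _ _ hx hy => rw [map_add]; exact Img.add_mem hx hy
    | smul a x _ hx =>
      rw [map_smul, ← IsScalarTower.algebraMap_smul (ResidueField A) a (ρ x)]
      exact Img.smul_mem hx _
  have htop : Img = ⊤ := eq_top_iff.2 fun z _ => by
    obtain ⟨v, rfl⟩ := residue_surjective z
    obtain ⟨c, s, hs, hc, hs', hvs⟩ := (dvr_of_dominates (K := K) V h).2 v
    have hzs : residue V v * residue V s = residue V c := by rw [← map_mul, hvs]
    have hs0 : residue V s ≠ 0 := (residue_ne_zero_iff_isUnit s).2 hs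
    rw [eq_div_of_mul_eq hs0 hzs, div_eq_mul_inv]
    refine Img.mul_mem (hImg ⟨_, hc⟩) ?_
    exact Subalgebra.inv_mem_of_algebraic Img (x := ⟨residue V s, hImg ⟨_, hs'⟩⟩)
      (hint ⟨_, hs'⟩).isAlgebraic
  exact Module.Finite.equiv ((Subalgebra.equivOfEq Img ⊤ htop).trans Subalgebra.topEquiv).toLinearEquiv

/-- A finitely generated compositum is finite over the second factor. -/
theorem finite_of_generated (K L K₁ M : Type u) [Field K] [Field L] [Field K₁] [Field M] [Algebra K L] [Algebra K K₁]
    [FiniteDimensional K K₁] [Algebra K M] [Algebra L M] [Algebra K₁ M] [IsScalarTower K L M] [IsScalarTower K K₁ M]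
    (hgen : Algebra.adjoin L (Set.range (algebraMap K₁ M)) = ⊤) : FiniteDimensional L M := by
  have hfin : Module.Finite L (Algebra.adjoin L (Set.range (algebraMap K₁ M))) := by
    let b := Module.finBasis K K₁
    have hle : Algebra.adjoin L (Set.range (algebraMap K₁ M)) ≤
        Algebra.adjoin L (Set.range fun i => algebraMap K₁ M (b i)) := by
      refine Algebra.adjoin_le ?_
      rintro _ ⟨x, rfl⟩
      rw [← b.sum_repr x, map_sum]
      refine sum_mem fun i _ => ?_
      rw [Algebra.smul_def, map_mul, ← IsScalarTower.algebraMap_apply, IsScalarTower.algebraMap_apply K L M,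
        ← Algebra.smul_def]
      exact Subalgebra.smul_mem _ (Algebra.subset_adjoin (Set.mem_range_self i)) _
    rw [le_antisymm hle (Algebra.adjoin_mono (by rintro _ ⟨i, rfl⟩; exact ⟨b i, rfl⟩))]
    exact Module.Finite.iff_fg.2 (fg_adjoin_of_finite (Set.finite_range _) (by
      rintro _ ⟨i, rfl⟩
      exact ((Algebra.IsIntegral.isIntegral (R := K) (b i)).map (IsScalarTower.toAlgHom K K₁ M)).tower_top))
  rw [hgen] at hfin
  exact Module.Finite.equiv (Subalgebra.topEquiv : (⊤ : Subalgebra L M) ≃ₐ[L] M).toLinearEquiv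

end Groth.Agent.WeakUnram
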