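import Mathlib
import Groth.Prelude.Def_EtRam
import Groth.Agent.DomDVR.FiniteExt

/-! Valuation rings dominating a DVR in a finite, possibly inseparable, extension. -/

set_option autoImplicit false
universe u

namespace Groth.Agent.WeakUnram
open IsLocalRing

/-- The valuation ring is a DVR, and each of its elements is a fraction of integral elements with unit denominator. -/
theorem dvr_of_dominates {A K L : Type u} [CommRing A] [IsDomain A] [IsDiscreteValuationRing A] [Field K]
    [Algebra A K] [IsFractionRing A K] [Field L] [Algebra K L] [Algebra A L] [IsScalarTower A K L]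
    [FiniteDimensional K L]
    (V : ValuationSubring L) (h : EtRam.Dominates A (algebraMap A L) V) :
    IsDiscreteValuationRing V ∧ ∀ v : V, ∃ c s : V, IsUnit s ∧ IsIntegral A (c : L) ∧ IsIntegral A (s : L) ∧
      v * s = c := by
  let C := integralClosure A L
  haveI : IsDedekindDomain C := DomDVR.isDedekindDomain_integralClosure_finite A K L
  haveI : IsFractionRing C L := integralClosure.isFractionRing_of_finite_extension K L
  have hCV : ∀ c : C, (c : L) ∈ V := by
    intro c
    letI : Algebra A V := (RingHom.codRestrict (algebraMap A L) V h.1).toAlgebra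
    haveI : IsScalarTower A V L := IsScalarTower.of_algebraMap_eq fun a => rfl
    obtain ⟨v, hv⟩ := IsIntegrallyClosed.isIntegral_iff.1
      (IsIntegral.tower_top (A := V) (c.2 : IsIntegral A (c : L)))
    rw [← hv]; exact v.2
  let φ : C →+* V := RingHom.codRestrict C.val.toRingHom V.toSubring hCV
  let P : Ideal C := (maximalIdeal V).comap φ
  haveI : P.IsPrime := inferInstance
  obtain ⟨π, hπ⟩ := IsDiscreteValuationRing.exists_irreducible A
  have hπP : algebraMap A C π ∈ P := by
    show φ (algebraMap A C π) ∈ maximalIdeal V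
    rw [ValuationSubring.valuation_lt_one_iff]
    exact h.2 π hπ.not_isUnit
  have hinjAL : Function.Injective (algebraMap A L) := by
    rw [IsScalarTower.algebraMap_eq A K L, RingHom.coe_comp]
    exact (algebraMap K L).injective.comp (IsFractionRing.injective A K)
  have hP0 : P ≠ ⊥ := fun hb => by
    rw [hb, Ideal.mem_bot] at hπP
    exact hπ.ne_zero (hinjAL ((congrArg Subtype.val hπP).trans (map_zero _).symm))
  haveI : IsDiscreteValuationRing (Localization.AtPrime P) :=
    IsLocalization.AtPrime.isDiscreteValuationRing_of_dedekind_domain C hP0 _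
  have hunit : ∀ s : P.primeCompl, IsUnit (φ s) := fun s => by
    by_contra hu
    exact s.2 hu
  let ψ : Localization.AtPrime P →+* V := IsLocalization.lift (M := P.primeCompl) hunit
  have hψ : ∀ c : C, ψ (algebraMap C _ c) = φ c := fun c => IsLocalization.lift_eq hunit c
  -- every element of `V` is in the image: `V` dominates the maximal local subring `C_P`
  have hκ : Function.Injective (V.subtype.comp ψ) := by
    rw [injective_iff_map_eq_zero]
    intro z hz
    obtain ⟨⟨c, s⟩, hc⟩ := IsLocalization.surj P.primeCompl z
    have h1 : φ c = 0 := by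
      have hz' : ψ z = 0 := Subtype.ext hz
      rw [← hψ, ← hc, map_mul, hz', zero_mul]
    have h2 : c = 0 := Subtype.ext ((congrArg Subtype.val h1 : (φ c : L) = _))
    rw [h2, map_zero] at hc
    exact (IsLocalization.map_units _ s).mul_left_eq_zero.1 hc
  letI : Algebra (Localization.AtPrime P) L := (V.subtype.comp ψ).toAlgebra
  haveI : FaithfulSMul (Localization.AtPrime P) L := (faithfulSMul_iff_algebraMap_injective _ _).2 hκ
  haveI : IsScalarTower C (Localization.AtPrime P) L := IsScalarTower.of_algebraMap_eq fun c =>
    (congrArg Subtype.val (hψ c)).symm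
  haveI : IsFractionRing (Localization.AtPrime P) L :=
    IsFractionRing.isFractionRing_of_isDomain_of_isLocalization P.primeCompl (Localization.AtPrime P) L
  haveI : IsLocalHom ψ := ⟨fun z hz => by
    obtain ⟨⟨c, s⟩, hc⟩ := IsLocalization.surj P.primeCompl z
    by_contra hzu
    have hcP : c ∈ P := by
      by_contra hcP
      exact hzu (isUnit_of_mul_isUnit_left (hc ▸ IsLocalization.map_units (Localization.AtPrime P) (⟨c, hcP⟩ : P.primeCompl)))
    exact hcP (hψ c ▸ hc ▸ (map_mul ψ z _).symm ▸ hz.mul ((IsLocalization.map_units _ s).map ψ))⟩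
  have hbij : Function.Bijective ψ := by
    refine ⟨fun x y hxy => hκ (congrArg V.subtype hxy), fun v => ?_⟩
    have hb := bijective_rangeRestrict_comp_of_valuationRing (K := L) ψ V.subtype rfl
    obtain ⟨y, hy⟩ := hb.2 ⟨V.subtype v, v, rfl⟩
    have h0 := Subtype.ext_iff.1 hy
    have h' : V.subtype (ψ y) = V.subtype v := h0
    exact ⟨y, Subtype.ext h'⟩
  refine ⟨IsDiscreteValuationRing.RingEquivClass.isDiscreteValuationRing (RingEquiv.ofBijective ψ hbij), fun v => ?_⟩
  obtain ⟨z, rfl⟩ := hbij.2 v
  obtain ⟨⟨c, s⟩, hc⟩ := IsLocalization.surj P.primeCompl z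
  exact ⟨φ c, φ s, hunit s, c.2, s.1.2, by rw [← hψ, ← hψ, ← map_mul, hc]⟩

end Groth.Agent.WeakUnram
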