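import Groth.Agent.WeakUnram.Core

/-! Valuation rings generated by a subring with reduced zero-dimensional special fibre. -/

set_option autoImplicit false
universe u

namespace Groth.Agent.WeakUnram
open IsLocalRing TensorProduct Polynomial

/-- A discrete valuation ring whose elements are fractions from a subring `S` with reduced zero-dimensional
`S ⧸ τ` has uniformizer `τ`, and its residue field is made of fractions from `S ⧸ τ`. -/
theorem generated_dvr {W : Type u} [CommRing W] [IsDomain W] [IsDiscreteValuationRing W] (S : Subring W) (τ : S)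
    (hτ0 : (τ : W) ≠ 0) (hτn : ¬ IsUnit (τ : W))
    (hgen : ∀ w : W, ∃ r s : S, (s : W) ≠ 0 ∧ w * s = r)
    {T : Type u} [CommRing T] [IsReduced T] (hmax : ∀ P : Ideal T, P.IsPrime → P.IsMaximal)
    (σ : T →+* S ⧸ Ideal.span {τ}) (hσ : Function.Surjective σ) :
    maximalIdeal W = Ideal.span {(τ : W)} ∧ ∃ χ : T →+* ResidueField W,
      (∀ (t : T) (r : S), σ t = Ideal.Quotient.mk _ r → χ t = residue W r) ∧
      ∀ z : ResidueField W, ∃ a b, χ b ≠ 0 ∧ z * χ b = χ a := by
  classical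
  let j : S ⧸ Ideal.span {τ} →+* ResidueField W := Ideal.Quotient.lift _ ((residue W).comp S.subtype) (fun x hx => by
    obtain ⟨c, rfl⟩ := Ideal.mem_span_singleton.1 hx
    rw [map_mul, RingHom.comp_apply, (residue_eq_zero_iff _).2 (show S.subtype τ ∈ maximalIdeal W from hτn), zero_mul])
  let χ : T →+* ResidueField W := j.comp σ
  have hχ : ∀ (t : T) (r : S), σ t = Ideal.Quotient.mk _ r → χ t = residue W r := fun t r h => by
    show j (σ t) = _
    rw [h]; rfl
  let Q : Ideal T := RingHom.ker χ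
  haveI : Q.IsPrime := RingHom.ker_isPrime _
  have hQmin : ∀ P : Ideal T, P.IsPrime → P ≤ Q → P = Q := fun P hP hPQ =>
    (hmax P hP).eq_of_le (Ideal.IsPrime.ne_top inferInstance) hPQ
  have hstep : ∀ r : S, ¬ IsUnit (r : W) → ∃ r' s : S, IsUnit (s : W) ∧ (r : W) * s = τ * r' := by
    intro r hr
    obtain ⟨t, ht⟩ := hσ (Ideal.Quotient.mk _ r)
    obtain ⟨t', ht', hz⟩ := exists_notMem_mul_eq_zero hQmin
      (show t ∈ Q by rw [RingHom.mem_ker, hχ t r ht, residue_eq_zero_iff]; exact hr)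
    obtain ⟨s, hs⟩ := Ideal.Quotient.mk_surjective (σ t')
    have h1 : r * s ∈ Ideal.span {τ} := by
      rw [← Ideal.Quotient.eq_zero_iff_mem, map_mul, hs, ← ht, mul_comm, ← map_mul, hz, map_zero]
    obtain ⟨r', hr'⟩ := Ideal.mem_span_singleton.1 h1
    refine ⟨r', s, ?_, congrArg Subtype.val hr'⟩
    by_contra hu
    exact ht' (by rw [RingHom.mem_ker, hχ t' s hs.symm, residue_eq_zero_iff]; exact hu)
  obtain ⟨t, ht⟩ := IsDiscreteValuationRing.exists_irreducible W
  have hdec : ∀ r : S, (r : W) ≠ 0 → ∃ (k : ℕ) (r₀ s : S),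
      IsUnit (r₀ : W) ∧ IsUnit (s : W) ∧ (r : W) * s = (τ : W) ^ k * r₀ := by
    obtain ⟨e, v, hev⟩ := IsDiscreteValuationRing.eq_unit_mul_pow_irreducible hτ0 ht
    have he : e ≠ 0 := by
      rintro rfl
      exact hτn (by rw [hev, pow_zero, mul_one]; exact v.isUnit)
    suffices ∀ N, ∀ r : S, ∀ u : Wˣ, (r : W) = u * t ^ N → ∃ (k : ℕ) (r₀ s : S),
        IsUnit (r₀ : W) ∧ IsUnit (s : W) ∧ (r : W) * s = (τ : W) ^ k * r₀ by
      intro r hr
      obtain ⟨N, u, hu⟩ := IsDiscreteValuationRing.eq_unit_mul_pow_irreducible hr ht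
      exact this N r u hu
    intro N
    induction N using Nat.strong_induction_on with
    | _ N ih =>
      intro r u hu
      by_cases hru : IsUnit (r : W)
      · exact ⟨0, r, 1, hru, by simp, by simp⟩
      obtain ⟨r', s, hs, hrs⟩ := hstep r hru
      have hr' : (r' : W) ≠ 0 := by
        intro h0
        rw [h0, mul_zero, hu] at hrs
        exact pow_ne_zero N ht.ne_zero ((u.isUnit.mul_right_eq_zero).1 (hs.mul_left_eq_zero.1 hrs))
      obtain ⟨M, w, hM⟩ := IsDiscreteValuationRing.eq_unit_mul_pow_irreducible hr' ht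
      have hN : N = e + M := by
        refine IsDiscreteValuationRing.unit_mul_pow_congr_pow ht ht (u * hs.unit) (v * w) N (e + M) ?_
        rw [Units.val_mul, Units.val_mul, IsUnit.unit_spec, pow_add]
        rw [hu, hev, hM] at hrs
        linear_combination hrs
      obtain ⟨k, r₀, s', hr₀, hs', heq⟩ := ih M (by omega) r' w hM
      refine ⟨k + 1, r₀, s * s', hr₀, by rw [Subring.coe_mul]; exact hs.mul hs', ?_⟩
      rw [Subring.coe_mul, ← mul_assoc, hrs, mul_assoc, heq, pow_succ]; ring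
  have hform : ∀ w : W, w ≠ 0 → ∃ (k : ℕ) (r₀ s : S),
      IsUnit (r₀ : W) ∧ IsUnit (s : W) ∧ w * s = (τ : W) ^ k * r₀ := by
    intro w hw0
    obtain ⟨r, s, hs, hrs⟩ := hgen w
    obtain ⟨k, r₀, s₁, hr₀, hs₁, h1⟩ := hdec r (fun h0 => hs (by
      rw [h0] at hrs
      exact (mul_eq_zero.1 hrs).resolve_left hw0))
    obtain ⟨l, t₀, t₁, ht₀, ht₁, h2⟩ := hdec s hs
    have h3 : w * ((τ : W) ^ l * ((t₀ : W) * s₁)) = (τ : W) ^ k * ((r₀ : W) * t₁) := by
      linear_combination (t₁ : W) * h1 + ((t₁ : W) * s₁) * hrs - (w * (s₁ : W)) * h2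
    have hlk : l ≤ k := by
      by_contra hlk
      rw [show l = k + (l - k - 1) + 1 by omega, pow_succ, pow_add] at h3
      have h4 : (r₀ : W) * t₁ = τ * (w * (τ : W) ^ (l - k - 1) * ((t₀ : W) * s₁)) :=
        mul_left_cancel₀ (pow_ne_zero k hτ0) (by linear_combination -h3)
      exact hτn (isUnit_of_mul_isUnit_left (h4 ▸ hr₀.mul ht₁))
    refine ⟨k - l, r₀ * t₁, t₀ * s₁, by rw [Subring.coe_mul]; exact hr₀.mul ht₁,
      by rw [Subring.coe_mul]; exact ht₀.mul hs₁, ?_⟩
    rw [Subring.coe_mul, Subring.coe_mul]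
    rw [show k = l + (k - l) by omega, pow_add] at h3
    exact mul_left_cancel₀ (pow_ne_zero l hτ0) (by linear_combination h3)
  refine ⟨le_antisymm (fun w hw => ?_) ((Ideal.span_singleton_le_iff_mem _).2 hτn), χ, hχ, fun z => ?_⟩
  · rcases eq_or_ne w 0 with rfl | hw0
    · exact Ideal.zero_mem _
    obtain ⟨k, r₀, s, hr₀, hs, h⟩ := hform w hw0
    rcases Nat.eq_zero_or_pos k with rfl | hk
    · rw [pow_zero, one_mul] at h
      exact absurd (isUnit_of_mul_isUnit_left (h ▸ hr₀)) hw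
    · refine Ideal.mem_span_singleton.2 (hs.dvd_mul_right.1 ?_)
      rw [h]
      exact Dvd.dvd.mul_right (dvd_pow_self _ hk.ne') _
  · obtain ⟨w, rfl⟩ := residue_surjective z
    rcases eq_or_ne w 0 with rfl | hw0
    · exact ⟨0, 1, by simp, by simp⟩
    obtain ⟨k, r₀, s, hr₀, hs, h⟩ := hform w hw0
    obtain ⟨a, ha⟩ := hσ (Ideal.Quotient.mk _ (τ ^ k * r₀))
    obtain ⟨b, hb⟩ := hσ (Ideal.Quotient.mk _ s)
    refine ⟨a, b, ?_, ?_⟩
    · rw [hχ b s hb]
      exact (residue_ne_zero_iff_isUnit _).2 hs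
    · rw [hχ b s hb, hχ a _ ha, ← map_mul, h]
      simp

/-- Adjoining a root of a separable monic polynomial to a reduced ring gives a reduced ring. -/
theorem isReduced_adjoinRoot {R : Type u} [CommRing R] [IsReduced R] {f : R[X]} (hf : f.Monic) (hs : f.Separable) :
    IsReduced (AdjoinRoot f) := by
  rw [isReduced_iff]
  intro x hx
  obtain ⟨p, rfl⟩ := AdjoinRoot.mk_surjective x
  rw [AdjoinRoot.mk_eq_zero, ← modByMonic_eq_zero_iff_dvd hf]
  ext i
  rw [coeff_zero, ← Ideal.mem_bot, ← Ideal.zero_eq_bot, ← nilradical_eq_zero R, nilradical_eq_sInf, Ideal.mem_sInf]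
  intro P hP
  haveI : P.IsPrime := hP
  let φ : R →+* FractionRing (R ⧸ P) := (algebraMap (R ⧸ P) (FractionRing (R ⧸ P))).comp (Ideal.Quotient.mk P)
  obtain ⟨n, hn⟩ := hx
  have hn' : AdjoinRoot.mk f (p ^ (n + 1)) = 0 := by rw [map_pow, pow_succ, hn, zero_mul]
  rw [AdjoinRoot.mk_eq_zero] at hn'
  have h2 := map_dvd (Polynomial.mapRingHom φ) hn'
  rw [coe_mapRingHom, Polynomial.map_pow] at h2
  have h1 : f.map φ ∣ p.map φ :=
    (((hs.map (f := φ)).squarefree).dvd_pow_iff_dvd n.succ_ne_zero).1 h2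
  have h3 : (p %ₘ f).map φ = 0 := by
    rw [Polynomial.map_modByMonic _ hf, modByMonic_eq_zero_iff_dvd (hf.map φ)]; exact h1
  have h4 := congrArg (fun q => q.coeff i) h3
  simp only [coeff_map, coeff_zero] at h4
  exact Ideal.Quotient.eq_zero_iff_mem.1
    ((map_eq_zero_iff _ (IsFractionRing.injective (R ⧸ P) (FractionRing (R ⧸ P)))).1 h4)

end Groth.Agent.WeakUnram
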